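import Groth.Agent.Lib.StabUniq18.Loc
import Groth.Agent.Lib.Multicross5.Scheme
import Groth.Agent.Lib.WedgeDVR3
import Groth.Agent.Lib.Branch14.Elementary
import Groth.Agent.Lib.NodalRed10.Scheme
import Groth.Agent.Lib.Hens.Transfer
import Groth.Agent.Lib.Nodal27.Point
import Groth.Agent.Lib.CohFound.ProperFinite

/-!
# The local rings of nodal curves
-/

set_option autoImplicit false
set_option linter.style.haveILetI false
set_option backward.isDefEq.respectTransparency false
set_option backward.isDefEq.respectTransparency.types false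

universe u

open CategoryTheory CategoryTheory.Limits AlgebraicGeometry TopologicalSpace

noncomputable section

namespace Groth.Agent.StabUniq18

open Multicross5

variable {k : Type u} [Field k] [IsAlgClosed k] {X : Scheme.{u}} [X.Over (Spec (CommRingCat.of k))]
  [LocallyOfFiniteType (X ↘ Spec (CommRingCat.of k))]

theorem numBranches_node [AlgebraicGeometry.IsReduced X] {x : X} (h : Curv2.IsNode k X x)
    (hdim : ringKrullDim (X.presheaf.stalk x) = 1) : Brnch.numBranches (X.presheaf.stalk x) = 2 := by
  obtain ⟨-, xb, rfl, e, -⟩ := h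
  let K := AlgebraicClosure k
  haveI : IsIso (CommRingCat.ofHom (algebraMap k K)) :=
    (ConcreteCategory.isIso_iff_bijective _).2
      (IsAlgClosed.algebraMap_bijective_of_isIntegral (k := k) (K := K))
  haveI : IsIso (Curv2.bcFst k X K) := inferInstanceAs (IsIso (pullback.fst _ _))
  let st := (asIso ((Curv2.bcFst k X K).stalkMap xb)).commRingCatIsoToRingEquiv
  let L := (Curv2.bc k X K).presheaf.stalk xb
  haveI : LocallyOfFiniteType (Curv2.bcSnd k X K) := inferInstanceAs (LocallyOfFiniteType (pullback.snd _ _))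
  letI : (Curv2.bc k X K).Over (Spec (CommRingCat.of K)) := ⟨Curv2.bcSnd k X K⟩
  haveI : LocallyOfFiniteType (Curv2.bc k X K ↘ Spec (CommRingCat.of K)) := inferInstanceAs (LocallyOfFiniteType (Curv2.bcSnd k X K))
  have hNL : CAlg.IsNagata L := isNagata_stalk K (X := Curv2.bc k X K) xb
  haveI : _root_.IsReduced L := isReduced_of_injective st.symm st.symm.injective
  have hdL : ringKrullDim L = 1 := (ringKrullDim_eq_of_ringEquiv st).symm.trans hdim
  have hI : Ideal.span {(MvPowerSeries.X 0 * MvPowerSeries.X 1 : MvPowerSeries (Fin 2) K)} = mcIdeal K 2 := by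
    refine le_antisymm (Ideal.span_le.2 ?_) (Ideal.span_le.2 ?_)
    · rintro _ rfl; exact Ideal.subset_span ⟨0, 1, by decide, rfl⟩
    · rintro _ ⟨i, j, hne, rfl⟩
      fin_cases i <;> fin_cases j <;> first
        | exact absurd rfl hne
        | exact Ideal.subset_span rfl
        | exact Ideal.subset_span (mul_comm _ _)
  rw [Branch14.numBranches_of_ringEquiv st]
  exact_mod_cast (multicross K hNL hdL 2 (e.trans (Ideal.quotEquivOfEq hI))).1

theorem regular_of_smooth_nbhd {x : X}
    (h : ∃ U : X.Opens, x ∈ U ∧ Smooth (U.ι ≫ (X ↘ Spec (CommRingCat.of k)))) :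
    IsRegularLocalRing (X.presheaf.stalk x) := by
  obtain ⟨V, hxV, hV⟩ := h
  haveI := hV
  haveI := SmoothReg17.isRegularLocalRing_stalk (V.ι ≫ (X ↘ Spec (CommRingCat.of k))) ⟨x, hxV⟩
  exact IsRegularLocalRing.of_ringEquiv (V.stalkIso ⟨x, hxV⟩).commRingCatIsoToRingEquiv

variable (k) in
/-- The hypotheses on a curve. -/
structure IsNodalCurve (X : Scheme.{u}) [X.Over (Spec (CommRingCat.of k))] : Prop where
  proper : IsProper (X ↘ Spec (CommRingCat.of k))
  dim : ∀ Z ∈ irreducibleComponents (X : Type u), topologicalKrullDim Z = 1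
  nodal : Curv2.AtWorstNodal k X

theorem IsNodalCurve.isReduced (hX : IsNodalCurve k X) : AlgebraicGeometry.IsReduced X := by
  haveI := hX.proper
  haveI := CohFound.isNoetherian_of_isProper (X ↘ Spec (CommRingCat.of k))
  haveI : GeometricallyReduced (X ↘ Spec (CommRingCat.of k)) := NodalRed10.geometricallyReduced_of_atWorstNodal X hX.nodal
  exact GeometricallyReduced.isReduced_of_flat_of_isLocallyNoetherian (X ↘ Spec (CommRingCat.of k))

theorem surjective_of_regular (hX : IsNodalCurve k X) {x : X} (hx : IsClosed ({x} : Set X))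
    (hreg : IsRegularLocalRing (X.presheaf.stalk x)) :
    Function.Surjective (algebraMap (X.presheaf.stalk x)
      ↥(integralClosure (X.presheaf.stalk x) (FractionRing (X.presheaf.stalk x)))) := by
  haveI := hX.isReduced
  have hd1 := Multicross5.dim_stalk_eq_one k hX.dim hx
  have h0 : Curv2.deltaInv (X.presheaf.stalk x) = 0 :=
    (S7653.result _ (Multicross5.isNagata_stalk k x) hd1).2
      ((Hens.isDiscreteValuationRing_iff_regular_dim_one _).2 ⟨hreg, hd1⟩)
  rw [Curv2.deltaInv, Module.length_eq_zero_iff] at h0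
  intro b
  obtain ⟨r, hr⟩ := (Submodule.Quotient.mk_eq_zero (LinearMap.range (Algebra.linearMap (X.presheaf.stalk x)
    ↥(integralClosure (X.presheaf.stalk x) (FractionRing (X.presheaf.stalk x)))))).1
      (@Subsingleton.elim _ h0 (Submodule.Quotient.mk b) 0)
  exact ⟨r, hr⟩

theorem mildSing (hX : IsNodalCurve k X) {x : X} (hx : IsClosed ({x} : Set X)) :
    MildSing (X.presheaf.stalk x) := by
  by_cases hn : Curv2.IsNode k X x
  · haveI := hX.isReduced
    haveI := hX.proper
    haveI := CohFound.isNoetherian_of_isProper (X ↘ Spec (CommRingCat.of k))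
    have hd1 := Multicross5.dim_stalk_eq_one k hX.dim hx
    refine MildSing.of_length (Multicross5.deltaInv_node hn hd1) fun hloc => ?_
    have h2 := numBranches_node hn hd1
    rw [WedgeDVR3.numBranches_eq_card] at h2
    haveI := hloc
    haveI : Subsingleton (MaximalSpectrum ↥(integralClosure (X.presheaf.stalk x) (FractionRing (X.presheaf.stalk x)))) :=
      ⟨fun a b => MaximalSpectrum.ext ((IsLocalRing.eq_maximalIdeal a.isMaximal).trans (IsLocalRing.eq_maximalIdeal b.isMaximal).symm)⟩
    have h1 := (ENat.card_le_one_iff_subsingleton _).2 (inferInstance : Subsingleton (MaximalSpectrum ↥(integralClosure (X.presheaf.stalk x) (FractionRing (X.presheaf.stalk x)))))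
    rw [h2] at h1
    exact absurd h1 (by decide)
  · exact MildSing.of_surjective (surjective_of_regular hX hx (regular_of_smooth_nbhd ((hX.nodal x hx).resolve_right hn)))

theorem not_isNode_of_surjective (hX : IsNodalCurve k X) {x : X} (hx : IsClosed ({x} : Set X))
    (h : Function.Surjective (algebraMap (X.presheaf.stalk x)
      ↥(integralClosure (X.presheaf.stalk x) (FractionRing (X.presheaf.stalk x))))) : ¬ Curv2.IsNode k X x := by
  intro hn
  haveI := hX.isReduced
  have h1 := Multicross5.deltaInv_node hn (Multicross5.dim_stalk_eq_one k hX.dim hx)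
  have h0 : Curv2.deltaInv (X.presheaf.stalk x) = 0 := by
    rw [Curv2.deltaInv, Module.length_eq_zero_iff]
    refine ⟨fun a b => ?_⟩
    obtain ⟨a, rfl⟩ := Submodule.Quotient.mk_surjective _ a
    obtain ⟨b, rfl⟩ := Submodule.Quotient.mk_surjective _ b
    obtain ⟨r, hr⟩ := h (a - b)
    exact (Submodule.Quotient.eq _).2 ⟨r, hr⟩
  exact zero_ne_one (h0.symm.trans h1)

end Groth.Agent.StabUniq18
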