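import Groth.Agent.Lib.StabUniq18.Genus

/-!
# Contractions killing the same components have the same fibres
-/

set_option autoImplicit false
set_option linter.style.haveILetI false
set_option maxHeartbeats 1000000
set_option backward.isDefEq.respectTransparency false
set_option backward.isDefEq.respectTransparency.types false

universe u

open CategoryTheory CategoryTheory.Limits AlgebraicGeometry TopologicalSpace Opposite Set

noncomputable section

namespace Groth.Agent.StabUniq18

variable {k : Type u} [Field k] [IsAlgClosed k] {X Y₁ Y₂ : Scheme.{u}}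
  [X.Over (Spec (CommRingCat.of k))] [Y₁.Over (Spec (CommRingCat.of k))] [Y₂.Over (Spec (CommRingCat.of k))]
  {c₁ : X ⟶ Y₁} {c₂ : X ⟶ Y₂} {n : ℕ} {x : Fin n → X}

/-- Stability, as used: no projective line with at most two special points. -/
theorem kills_of_kills (h₁ : IsPtContr k c₁ x) (h₂ : IsPtContr k c₂ x)
    (hstab : ∀ W : Set Y₂, CurvSt.IsSmRatComp k Y₂ (Y₂ ↘ Spec (CommRingCat.of k)) W →
      ¬ (CurvSt.meetPts Y₂ W).encard + (Nat.card {j : Fin n // c₂ (x j) ∈ W} : ℕ∞) ≤ 2)
    (hgen : n = 0 → 2 ≤ Curv2.genus k Y₂)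
    {E : Set X} (hE' : E ∈ irreducibleComponents (X : Type u)) (hk : Kills c₁ E) : Kills c₂ E := by
  by_contra hnk
  obtain ⟨i, hki, hcase⟩ := exists_unstable h₁ h₂ ⟨E, hE', hk, hnk⟩
  rcases hcase with ⟨hcl, hle⟩ | ⟨hn, huniv, hone⟩
  · obtain ⟨e, he⟩ := h₁.toIsContr.iso_P1 i.2.1 hki
    haveI := hcl
    refine hstab (c₂ '' i.1) ⟨h₂.toIsContr.image_mem_components i.2.1 i.2.2, e.hom ≫ hE i, inferInstance, ?_, ?_⟩ hle
    · rw [← he, Category.assoc, Category.assoc, h₂.toIsContr.over']
    · ext y
      constructor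
      · rintro ⟨z, rfl⟩
        exact ⟨redι (clE i.2.1) (e.hom z), (mem_range_redι i.2.1).1 ⟨_, rfl⟩, rfl⟩
      · rintro ⟨q, hq, rfl⟩
        obtain ⟨z, rfl⟩ := (mem_range_redι i.2.1).2 hq
        obtain ⟨w, rfl⟩ := e.hom.homeomorph.surjective z
        exact ⟨w, rfl⟩
  · haveI := h₂.connY
    exact absurd (hgen hn) (not_le.2 (Nat.lt_succ_of_le (h₁.toIsContr.genus_le_one h₂.toIsContr i hki huniv hone)))

theorem isClosed_of_finite {T : Scheme.{u}} [JacobsonSpace T] {F : Set T} (hF : F.Finite) (hFc : IsClosed F)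
    (R : Set T) (hR : R ⊆ F) : IsClosed R := by
  haveI := hF.to_subtype
  haveI : JacobsonSpace F := JacobsonSpace.of_isClosedEmbedding hFc.isClosedEmbedding_subtypeVal
  have := hFc.isClosedEmbedding_subtypeVal.isClosedMap _ (isClosed_discrete (Subtype.val ⁻¹' R : Set F))
  rwa [Subtype.image_preimage_coe, Set.inter_eq_right.2 hR] at this

/-- A finite preconnected set whose points do not specialise to one another is a point. -/
theorem subsingleton_of_antichain {T : Type u} [TopologicalSpace T] {F : Set T} (hF : F.Finite)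
    (hp : _root_.IsPreconnected F) (ha : ∀ a ∈ F, ∀ b ∈ F, a ⤳ b → a = b) : F.Subsingleton := by
  intro a haF b hbF
  by_contra hne
  have hcl : IsClosed (⋃ z ∈ F \ {a}, closure ({z} : Set T)) :=
    (hF.subset Set.sdiff_subset).isClosed_biUnion fun _ _ => isClosed_closure
  obtain ⟨z, hzF, hz1, hz2⟩ := isPreconnected_closed_iff.1 hp (closure {a}) _ isClosed_closure hcl
    (fun w hw => (em (w = a)).imp (fun (e : w = a) => e ▸ subset_closure rfl)
      (fun e => Set.mem_biUnion (⟨hw, e⟩ : w ∈ F \ {a}) (subset_closure rfl)))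
    ⟨a, haF, subset_closure rfl⟩ ⟨b, hbF, Set.mem_biUnion (⟨hbF, Ne.symm hne⟩ : b ∈ F \ {a}) (subset_closure rfl)⟩
  simp only [Set.mem_iUnion] at hz2
  obtain ⟨w, ⟨hwF, hwa⟩, hzw⟩ := hz2
  have e1 := ha a haF z hzF (specializes_iff_mem_closure.2 hz1)
  have e2 := ha w hwF z hzF (specializes_iff_mem_closure.2 hzw)
  exact hwa (e2.trans e1.symm)

/-- If every killed component is killed by the other contraction, fibres go to points. -/
theorem collapse_of_kills (h₁ : IsContr k c₁) (h₂ : IsContr k c₂)
    (hkk : ∀ E ∈ irreducibleComponents (X : Type u), Kills c₁ E → Kills c₂ E) {a b : X} (hab : c₁ a = c₁ b) :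
    c₂ a = c₂ b := by
  haveI := h₁.source.isNoetherian
  haveI := h₁.source.proper
  haveI := h₂.target.proper
  haveI := h₁.isProper
  haveI := h₂.isProper
  haveI : JacobsonSpace X := LocallyOfFiniteType.jacobsonSpace (X ↘ Spec (CommRingCat.of k))
  haveI : JacobsonSpace Y₂ := LocallyOfFiniteType.jacobsonSpace (Y₂ ↘ Spec (CommRingCat.of k))
  have hd := h₁.source.dim_le
  set y := c₁ a with hy
  have hp := h₁.isPreconnected_fibre y
  by_cases hyc : IsClosed ({y} : Set Y₁)
  · let F := c₁ ⁻¹' {y}
    have hFc : IsClosed F := hyc.preimage c₁.continuous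
    have himg : (c₂ '' F).Finite := by
      have hcov : c₂ '' F ⊆ ⋃ E ∈ irreducibleComponents (X : Type u), c₂ '' (F ∩ E) := by
        rintro _ ⟨q, hq, rfl⟩
        obtain ⟨E, hE', hqE⟩ := exists_comp q
        exact Set.mem_biUnion hE' ⟨q, ⟨hq, hqE⟩, rfl⟩
      refine (Set.Finite.biUnion NoetherianSpace.finite_irreducibleComponents fun E hE' => ?_).subset hcov
      by_cases hEF : E ⊆ F
      · have hk : Kills c₁ E := by
          rintro _ ⟨p, hp', rfl⟩ _ ⟨q, hq', rfl⟩
          exact (hEF hp').trans (hEF hq').symm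
        exact (hkk E hE' hk).finite.subset (Set.image_mono Set.inter_subset_right)
      · exact (finite_inter_comp hd hFc hE' hEF).image _
    have hc2 : IsClosed (c₂ '' F) := c₂.isClosedMap F hFc
    refine subsingleton_of_antichain himg (hp.image _ c₂.continuous.continuousOn) (fun p hp' q _ hpq => ?_)
      ⟨a, rfl, rfl⟩ ⟨b, hab.symm, rfl⟩
    have hpc := isClosed_of_finite himg hc2 {p} (Set.singleton_subset_iff.2 hp')
    exact ((hpq.mem_closed hpc rfl : q ∈ ({p} : Set Y₂))).symm
  · refine congrArg c₂ ?_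
    have hmax : ∀ q ∈ c₁ ⁻¹' {y}, ∀ z, z ⤳ q → z = q := by
      intro q hq z hz
      by_contra hne
      have hqc := PicLift19.isClosed_singleton_of_dim_le_one hd hz hne
      have := c₁.isClosedMap _ hqc
      rw [Set.image_singleton, show c₁ q = y from hq] at this
      exact hyc this
    have hfin : (c₁ ⁻¹' {y}).Finite := by
      refine (Set.Finite.subset ((NoetherianSpace.finite_irreducibleComponents (α := X)).biUnion
        fun E hE' => (Set.Subsingleton.finite fun p hp' q hq' => ?_ : {γ : X | closure ({γ} : Set X) = E}.Finite)) fun q hq => ?_)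
      · exact (inseparable_iff_closure_eq.2 (hp'.trans hq'.symm)).eq
      · obtain ⟨E, hE', hqE⟩ := exists_comp q
        obtain ⟨γ, hγ⟩ := QuasiSober.sober hE'.1 (isClosed_of_mem_irreducibleComponents E hE')
        refine Set.mem_biUnion hE' ?_
        show closure {q} = E
        rw [← hmax q hq γ (hγ.specializes hqE)]
        exact hγ.def
    exact subsingleton_of_antichain hfin hp (fun p _ q hq hpq => hmax q hq p hpq) rfl hab.symm

end Groth.Agent.StabUniq18
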