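import Groth.Agent.Lib.StabUniq18.Loc
import Mathlib.RingTheory.Localization.Finiteness
import Mathlib.RingTheory.Localization.AtPrime.Basic

/-!
# Finite birational extensions near a point with small normalisation
-/

set_option autoImplicit false
set_option linter.style.haveILetI false

universe u

namespace Groth.Agent.StabUniq18

open scoped nonZeroDivisors

variable {A B : Type u} [CommRing A] [CommRing B] [Algebra A B] [Module.Finite A B]

/-- A finite extension, trivial after inverting a regular element. -/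
structure Birat (A B : Type u) [CommRing A] [CommRing B] [Algebra A B] : Prop where
  inj : Function.Injective (algebraMap A B)
  exists_s : ∃ s ∈ A⁰, (∀ b : B, ∃ a : A, algebraMap A B a = s • b) ∧ ∀ b : B, s • b = 0 → b = 0

variable (hb : Birat A B) (M : Ideal A) [M.IsMaximal] (R : Type u) [CommRing R] [Algebra A R]
  [IsLocalization.AtPrime R M] [IsNoetherianRing A]
  (Bl : Type u) [CommRing Bl] [Algebra B Bl] [IsLocalization (Algebra.algebraMapSubmonoid B M.primeCompl) Bl]
  [Algebra A Bl] [IsScalarTower A B Bl]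

include hb in
theorem birat_localized :
    letI : Algebra R Bl := localizationAlgebra M.primeCompl B
    Module.Finite R Bl ∧ Birat R Bl := by
  letI : Algebra R Bl := localizationAlgebra M.primeCompl B
  haveI : IsScalarTower A R Bl := isScalarTower_localizationAlgebra M.primeCompl B
  refine ⟨Module.Finite.of_isLocalization A B M.primeCompl, localizationAlgebra_injective R Bl hb.inj, ?_⟩
  obtain ⟨s, hs, hB, hreg⟩ := hb.exists_s
  refine ⟨algebraMap A R s, IsLocalization.map_nonZeroDivisors_le M.primeCompl R ⟨s, hs, rfl⟩, fun x => ?_, fun x hx => ?_⟩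
  · obtain ⟨b, ⟨_, m, hm, rfl⟩, rfl⟩ := IsLocalization.exists_mk'_eq (Algebra.algebraMapSubmonoid B M.primeCompl) x
    obtain ⟨a, ha⟩ := hB b
    refine ⟨IsLocalization.mk' R a ⟨m, hm⟩, ?_⟩
    rw [algebraMap_smul, localizationAlgebraMap_def R Bl, IsLocalization.map_mk',
      Algebra.smul_def, IsScalarTower.algebraMap_apply A B Bl, IsLocalization.mul_mk'_eq_mk'_of_mul,
      ← Algebra.smul_def, ha]
  · obtain ⟨b, ⟨_, m, hm, rfl⟩, rfl⟩ := IsLocalization.exists_mk'_eq (Algebra.algebraMapSubmonoid B M.primeCompl) x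
    rw [algebraMap_smul, Algebra.smul_def, IsScalarTower.algebraMap_apply A B Bl, IsLocalization.mul_mk'_eq_mk'_of_mul,
      IsLocalization.mk'_eq_zero_iff] at hx
    obtain ⟨⟨_, m', hm', rfl⟩, h⟩ := hx
    refine (IsLocalization.mk'_eq_zero_iff _ _).2 ⟨⟨_, m', hm', rfl⟩, hreg _ ?_⟩
    rw [Algebra.smul_def, ← h]
    show algebraMap A B s * (algebraMap A B m' * b) = algebraMap A B m' * (algebraMap A B s * b)
    ring

omit [IsNoetherianRing A] in
theorem mem_submonoid_disjoint {P : Ideal B} (hP : P.IsPrime) (hPM : P.comap (algebraMap A B) = M) :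
    Disjoint (Algebra.algebraMapSubmonoid B M.primeCompl : Set B) (P : Set B) := by
  rw [Set.disjoint_left]
  rintro _ ⟨m, hm, rfl⟩ hmP
  exact hm (hPM ▸ hmP : m ∈ M)

include R in
theorem map_isMaximal {P : Ideal B} (hP : P.IsPrime) (hPM : P.comap (algebraMap A B) = M) :
    (P.map (algebraMap B Bl)).IsMaximal := by
  letI : Algebra R Bl := localizationAlgebra M.primeCompl B
  haveI : IsScalarTower A R Bl := isScalarTower_localizationAlgebra M.primeCompl B
  haveI : Module.Finite R Bl := Module.Finite.of_isLocalization A B M.primeCompl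
  haveI : Algebra.IsIntegral R Bl := ⟨IsIntegral.of_finite R⟩
  have hd := mem_submonoid_disjoint M hP hPM
  haveI := IsLocalization.isPrime_of_isPrime_disjoint _ Bl P hP hd
  haveI : IsLocalRing R := IsLocalization.AtPrime.isLocalRing R M
  refine Ideal.isMaximal_of_isIntegral_of_isMaximal_comap (R := R) _ ?_
  convert IsLocalRing.maximalIdeal.isMaximal R
  rw [← IsLocalization.map_comap M.primeCompl R (Ideal.comap (algebraMap R Bl) _),
    ← IsLocalization.AtPrime.map_eq_maximalIdeal M R]
  congr 1
  rw [Ideal.under_def, Ideal.comap_comap, ← IsScalarTower.algebraMap_eq A R Bl,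
    IsScalarTower.algebraMap_eq A B Bl, ← Ideal.comap_comap]
  show Ideal.comap (algebraMap A B) (Ideal.under B (P.map (algebraMap B Bl))) = M
  rw [IsLocalization.comap_map_of_isPrime_disjoint _ Bl hP hd, hPM]

omit [IsNoetherianRing A] in
include R in
theorem comap_eq_of_isMaximal {n : Ideal Bl} (hn : n.IsMaximal) :
    ((n.comap (algebraMap B Bl)).comap (algebraMap A B)) = M := by
  letI : Algebra R Bl := localizationAlgebra M.primeCompl B
  haveI : IsScalarTower A R Bl := isScalarTower_localizationAlgebra M.primeCompl B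
  haveI : Module.Finite R Bl := Module.Finite.of_isLocalization A B M.primeCompl
  haveI : Algebra.IsIntegral R Bl := ⟨IsIntegral.of_finite R⟩
  haveI : IsLocalRing R := IsLocalization.AtPrime.isLocalRing R M
  haveI := hn
  rw [Ideal.comap_comap, ← IsScalarTower.algebraMap_eq A B Bl, IsScalarTower.algebraMap_eq A R Bl, ← Ideal.comap_comap,
    IsLocalRing.eq_maximalIdeal (Ideal.isMaximal_comap_of_isIntegral_of_isMaximal (R := R) n),
    ]
  exact IsLocalization.AtPrime.comap_maximalIdeal R M

omit R Bl in
/-- At most two primes over a point with small normalisation. -/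
theorem not_three_over (R : Type u) [CommRing R] [Algebra A R] [IsLocalization.AtPrime R M]
    [_root_.IsReduced R] (hb : Birat A B) (hm : MildSing R) {P₁ P₂ P₃ : Ideal B} (h₁ : P₁.IsPrime) (h₂ : P₂.IsPrime) (h₃ : P₃.IsPrime)
    (e₁ : P₁.comap (algebraMap A B) = M) (e₂ : P₂.comap (algebraMap A B) = M) (e₃ : P₃.comap (algebraMap A B) = M)
    (h12 : P₁ ≠ P₂) (h13 : P₁ ≠ P₃) (h23 : P₂ ≠ P₃) : False := by
  let Bl := Localization (Algebra.algebraMapSubmonoid B M.primeCompl)
  letI : Algebra R Bl := localizationAlgebra M.primeCompl B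
  haveI : IsLocalRing R := IsLocalization.AtPrime.isLocalRing R M
  obtain ⟨hfin, hi, s, hs, hB, hreg⟩ := birat_localized hb M R Bl
  haveI := hfin
  have key : ∀ {P Q : Ideal B}, P.IsPrime → Q.IsPrime → P.comap (algebraMap A B) = M → Q.comap (algebraMap A B) = M →
      P.map (algebraMap B Bl) = Q.map (algebraMap B Bl) → P = Q := fun {P Q} hP hQ eP eQ h => by
    have := congrArg (Ideal.under B) h
    rwa [IsLocalization.comap_map_of_isPrime_disjoint _ Bl hP (mem_submonoid_disjoint M hP eP),
      IsLocalization.comap_map_of_isPrime_disjoint _ Bl hQ (mem_submonoid_disjoint M hQ eQ)] at this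
  exact not_three hi hs hB hreg hm _ _ _ (map_isMaximal M R Bl h₁ e₁) (map_isMaximal M R Bl h₂ e₂)
    (map_isMaximal M R Bl h₃ e₃) (fun h => h12 (key h₁ h₂ e₁ e₂ h)) (fun h => h13 (key h₁ h₃ e₁ e₃ h))
    (fun h => h23 (key h₂ h₃ e₂ e₃ h))

omit R Bl in
/-- At most one prime over a point with trivial normalisation. -/
theorem eq_of_surjective (R : Type u) [CommRing R] [Algebra A R] [IsLocalization.AtPrime R M]
    (hb : Birat A B) (hm : Function.Surjective (algebraMap R ↥(integralClosure R (FractionRing R))))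
    {P₁ P₂ : Ideal B} (h₁ : P₁.IsPrime) (h₂ : P₂.IsPrime)
    (e₁ : P₁.comap (algebraMap A B) = M) (e₂ : P₂.comap (algebraMap A B) = M) : P₁ = P₂ := by
  let Bl := Localization (Algebra.algebraMapSubmonoid B M.primeCompl)
  letI : Algebra R Bl := localizationAlgebra M.primeCompl B
  haveI : IsLocalRing R := IsLocalization.AtPrime.isLocalRing R M
  obtain ⟨hfin, hi, s, hs, hB, hreg⟩ := birat_localized hb M R Bl
  haveI := hfin
  obtain ⟨ι, hι⟩ := exists_embedding hi hs hB hreg
  have hsurj : Function.Surjective (algebraMap R Bl) := fun b => by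
    obtain ⟨r, hr⟩ := hm (ι b)
    exact ⟨r, hι ((ι.commutes r).trans hr)⟩
  have hu : P₁.map (algebraMap B Bl) = P₂.map (algebraMap B Bl) :=
    Ideal.comap_injective_of_surjective _ hsurj (by
      haveI := map_isMaximal M R Bl h₁ e₁
      haveI := map_isMaximal M R Bl h₂ e₂
      exact (IsLocalRing.eq_maximalIdeal (Ideal.comap_isMaximal_of_surjective _ hsurj)).trans
        (IsLocalRing.eq_maximalIdeal (Ideal.comap_isMaximal_of_surjective _ hsurj)).symm)
  have := congrArg (Ideal.under B) hu
  rwa [IsLocalization.comap_map_of_isPrime_disjoint _ Bl h₁ (mem_submonoid_disjoint M h₁ e₁),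
    IsLocalization.comap_map_of_isPrime_disjoint _ Bl h₂ (mem_submonoid_disjoint M h₂ e₂)] at this

omit R Bl in
/-- Modulo an ideal with a unique prime above the point, the base surjects locally. -/
theorem exists_smul_mem (R : Type u) [CommRing R] [Algebra A R] [IsLocalization.AtPrime R M]
    [_root_.IsReduced R] (hb : Birat A B) (hm : MildSing R) (K : Ideal B) {P : Ideal B} (hP : P.IsPrime) (hKP : K ≤ P)
    (eP : P.comap (algebraMap A B) = M)
    (huniq : ∀ Q : Ideal B, Q.IsPrime → K ≤ Q → Q.comap (algebraMap A B) = M → Q = P) (b : B) :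
    ∃ m ∉ M, ∃ a : A, algebraMap A B m * b - algebraMap A B a ∈ K := by
  let Bl := Localization (Algebra.algebraMapSubmonoid B M.primeCompl)
  letI : Algebra R Bl := localizationAlgebra M.primeCompl B
  haveI : IsScalarTower A R Bl := isScalarTower_localizationAlgebra M.primeCompl B
  haveI : IsLocalRing R := IsLocalization.AtPrime.isLocalRing R M
  obtain ⟨hfin, hi, s, hs, hB, hreg⟩ := birat_localized hb M R Bl
  haveI := hfin
  let Kl := K.map (algebraMap B Bl)
  have hmax := map_isMaximal M R Bl hP eP
  have hle : Kl ≤ P.map (algebraMap B Bl) := Ideal.map_mono hKP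
  have hu : ∀ n : Ideal Bl, n.IsMaximal → Kl ≤ n → n = P.map (algebraMap B Bl) := fun n hn hKn => by
    have := huniq (n.comap (algebraMap B Bl)) (hn.isPrime.comap _) (Ideal.map_le_iff_le_comap.1 hKn)
      (comap_eq_of_isMaximal M R Bl hn)
    rw [← this]
    exact (IsLocalization.map_comap (Algebra.algebraMapSubmonoid B M.primeCompl) Bl n).symm
  haveI : Nontrivial (Bl ⧸ Kl) := Ideal.Quotient.nontrivial_iff.2 fun h => hmax.ne_top (eq_top_iff.2 (h ▸ hle))
  haveI : IsLocalRing (Bl ⧸ Kl) := IsLocalRing.of_unique_max_ideal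
    ⟨(P.map (algebraMap B Bl)).map (Ideal.Quotient.mk Kl), (Ideal.map_eq_top_or_isMaximal_of_surjective _
        Ideal.Quotient.mk_surjective hmax).resolve_left fun h => hmax.ne_top (by
          have := congrArg (Ideal.comap (Ideal.Quotient.mk Kl)) h
          rwa [Ideal.comap_map_of_surjective _ Ideal.Quotient.mk_surjective, Ideal.comap_top, ← RingHom.ker_eq_comap_bot,
            Ideal.mk_ker, sup_eq_left.2 hle] at this),
      fun n hn => by
        haveI := hn
        rw [← hu (n.comap (Ideal.Quotient.mk Kl)) (Ideal.comap_isMaximal_of_surjective _ Ideal.Quotient.mk_surjective)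
          (fun z hz => by rw [Ideal.mem_comap, Ideal.Quotient.eq_zero_iff_mem.2 hz]; exact n.zero_mem)]
        exact (Ideal.map_comap_of_surjective _ Ideal.Quotient.mk_surjective n).symm⟩
  obtain ⟨r, hr⟩ := surjective_quotient hi hs hB hreg hm Kl (Ideal.Quotient.mk Kl (algebraMap B Bl b))
  obtain ⟨a, ⟨m, hm'⟩, rfl⟩ := IsLocalization.exists_mk'_eq M.primeCompl r
  have hmem := Ideal.Quotient.eq.1 hr
  have h2 : algebraMap A Bl a - algebraMap A Bl m * algebraMap B Bl b ∈ Kl := by
    have := Kl.mul_mem_left (algebraMap R Bl (algebraMap A R m)) hmem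
    rwa [mul_sub, ← map_mul, IsLocalization.mk'_spec'_mk, ← IsScalarTower.algebraMap_apply A R Bl,
      ← IsScalarTower.algebraMap_apply A R Bl] at this
  rw [IsScalarTower.algebraMap_apply A B Bl a, IsScalarTower.algebraMap_apply A B Bl m, ← map_mul, ← map_sub,
    IsLocalization.algebraMap_mem_map_algebraMap_iff (Algebra.algebraMapSubmonoid B M.primeCompl)] at h2
  obtain ⟨_, ⟨m', hm'', rfl⟩, hK⟩ := h2
  refine ⟨m' * m, fun h => (Ideal.IsPrime.mem_or_mem inferInstance h).elim hm'' hm', m' * a, ?_⟩
  have := K.neg_mem hK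
  rw [map_mul, map_mul]
  convert this using 1
  ring

omit R Bl in
/-- An element of all primes over the point comes from the base near the point. -/
theorem exists_smul_eq (R : Type u) [CommRing R] [Algebra A R] [IsLocalization.AtPrime R M]
    [_root_.IsReduced R] (hb : Birat A B) (hm : MildSing R) (b : B)
    (hbQ : ∀ Q : Ideal B, Q.IsPrime → Q.comap (algebraMap A B) = M → b ∈ Q) :
    ∃ m ∉ M, ∃ a : A, algebraMap A B m * b = algebraMap A B a := by
  let Bl := Localization (Algebra.algebraMapSubmonoid B M.primeCompl)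
  letI : Algebra R Bl := localizationAlgebra M.primeCompl B
  haveI : IsScalarTower A R Bl := isScalarTower_localizationAlgebra M.primeCompl B
  haveI : IsLocalRing R := IsLocalization.AtPrime.isLocalRing R M
  obtain ⟨hfin, hi, s, hs, hB, hreg⟩ := birat_localized hb M R Bl
  haveI := hfin
  obtain ⟨r, hr⟩ := mem_range_of_mem_jacobson hi hs hB hreg hm (algebraMap B Bl b) fun n hn =>
    (hbQ (n.comap (algebraMap B Bl)) (hn.isPrime.comap _) (comap_eq_of_isMaximal M R Bl hn) : _)
  obtain ⟨a, ⟨m, hm'⟩, rfl⟩ := IsLocalization.exists_mk'_eq M.primeCompl r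
  have h2 : algebraMap A Bl m * algebraMap B Bl b = algebraMap A Bl a := by
    rw [← hr, IsScalarTower.algebraMap_apply A R Bl m, ← map_mul, IsLocalization.mk'_spec'_mk,
      ← IsScalarTower.algebraMap_apply A R Bl]
  rw [IsScalarTower.algebraMap_apply A B Bl a, IsScalarTower.algebraMap_apply A B Bl m, ← map_mul,
    IsLocalization.eq_iff_exists (Algebra.algebraMapSubmonoid B M.primeCompl) Bl] at h2
  obtain ⟨⟨_, m', hm'', rfl⟩, hK⟩ := h2
  refine ⟨m' * m, fun h => (Ideal.IsPrime.mem_or_mem inferInstance h).elim hm'' hm', m' * a, ?_⟩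
  rw [map_mul, map_mul, mul_assoc]
  exact hK

end Groth.Agent.StabUniq18
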