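import Groth.Agent.Lib.StabUniq18.Top
import Groth.Agent.Lib.StabUniq18.Stalk
import Groth.Agent.Lib.StabUniq18.Glob
import Groth.Agent.Lib.ExcH1_18.Basic
import Groth.Agent.Lib.BlanchardNS19
import Groth.Agent.Lib.CurveR1_10.Dim
import Groth.Agent.Lib.RedSep.Basic
import Groth.Agent.Lib.CurveCoh17.Birational

/-!
# Contractions of nodal curves
-/

set_option autoImplicit false
set_option linter.style.haveILetI false
set_option maxHeartbeats 1000000
set_option backward.isDefEq.respectTransparency false
set_option backward.isDefEq.respectTransparency.types false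

universe u

open CategoryTheory CategoryTheory.Limits AlgebraicGeometry TopologicalSpace Opposite Set

noncomputable section

namespace Groth.Agent.StabUniq18

open CohFound

variable {k : Type u} [Field k] [IsAlgClosed k] {X Y : Scheme.{u}}
  [X.Over (Spec (CommRingCat.of k))] [Y.Over (Spec (CommRingCat.of k))]

variable (k) in
/-- A contraction of connected nodal curves. -/
structure IsContr (c : X ⟶ Y) : Prop where
  source : IsNodalCurve k X
  target : IsNodalCurve k Y
  conn : ConnectedSpace X
  over' : c ≫ (Y ↘ Spec (CommRingCat.of k)) = X ↘ Spec (CommRingCat.of k)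
  app : ∀ U : Y.Opens, IsIso (c.app U)
  h1 : ∀ V : Y.Opens, IsAffineOpen V → Subsingleton (Hc ((abF X).obj (Coh.structureModule X)) 1 (c ⁻¹ᵁ V))

theorem IsNodalCurve.isNoetherian (h : IsNodalCurve k X) : IsNoetherian X :=
  haveI := h.proper
  CohFound.isNoetherian_of_isProper (X ↘ Spec (CommRingCat.of k))

theorem IsNodalCurve.dim_le (h : IsNodalCurve k X) : topologicalKrullDim X ≤ 1 :=
  haveI := h.isNoetherian
  CurveR1_10.topologicalKrullDim_le_of_components fun Z hZ => (h.dim Z hZ).le

theorem IsNodalCurve.comp_not_finite (h : IsNodalCurve k X) {E : Set X} (hE : E ∈ irreducibleComponents (X : Type u)) :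
    ¬ E.Finite := by
  intro hf
  have h1 := h.dim E hE
  haveI := hf.to_subtype
  haveI := h.proper
  haveI : JacobsonSpace X := LocallyOfFiniteType.jacobsonSpace (X ↘ Spec (CommRingCat.of k))
  haveI : JacobsonSpace E := JacobsonSpace.of_isClosedEmbedding (isClosed_of_mem_irreducibleComponents E hE).isClosedEmbedding_subtypeVal
  have h0 := topologicalKrullDim_zero_of_discreteTopology E
  rw [h1] at h0
  exact absurd h0 (not_le.2 zero_lt_one)

/-- The reduced closed subscheme on a closed set. -/
abbrev red (Z : Closeds X) : Scheme.{u} := (Scheme.IdealSheafData.vanishingIdeal Z).subscheme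

/-- Its inclusion. -/
abbrev redι (Z : Closeds X) : red Z ⟶ X := (Scheme.IdealSheafData.vanishingIdeal Z).subschemeι

theorem range_redι (Z : Closeds X) : Set.range (redι Z) = (Z : Set X) := by
  rw [Scheme.IdealSheafData.range_subschemeι]; rfl

/-- The closed set of a component. -/
abbrev clE {E : Set X} (hE : E ∈ irreducibleComponents (X : Type u)) : Closeds X :=
  ⟨E, isClosed_of_mem_irreducibleComponents E hE⟩

theorem isIntegral_red {E : Set X} (hE : E ∈ irreducibleComponents (X : Type u)) : IsIntegral (red (clE hE)) := by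
  haveI : AlgebraicGeometry.IsReduced (red (clE hE)) := RedSepLib.isReduced_vanishingIdeal_subscheme _
  haveI : IrreducibleSpace (red (clE hE)) := by
    have hirr : IsIrreducible (Set.range (redι (clE hE))) := by rw [range_redι]; exact hE.1
    haveI : IrreducibleSpace (Set.range (redι (clE hE))) := Subtype.irreducibleSpace hirr
    exact (redι (clE hE)).isEmbedding.toHomeomorph.symm.surjective.irreducibleSpace
      (redι (clE hE)).isEmbedding.toHomeomorph.symm.continuous
  exact isIntegral_of_irreducibleSpace_of_isReduced _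

/-- A component is killed when its image is a point. -/
def Kills (c : X ⟶ Y) (E : Set X) : Prop := (c '' E).Subsingleton

variable {c : X ⟶ Y} (hc : IsContr k c)
include hc

theorem IsContr.isProper : IsProper c := by
  haveI := hc.source.proper
  haveI := hc.target.proper
  haveI : IsProper (c ≫ (Y ↘ Spec (CommRingCat.of k))) := hc.over'.symm ▸ inferInstance
  exact IsProper.of_comp c (Y ↘ Spec (CommRingCat.of k))

theorem IsContr.surjective : Function.Surjective c := by
  haveI := hc.isProper
  intro y
  by_contra hy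
  let V : Y.Opens := ⟨(Set.range c)ᶜ, c.isClosedMap.isClosed_range.isOpen_compl⟩
  have hV : c ⁻¹ᵁ V = ⊥ := by
    rw [eq_bot_iff]; exact fun x hx => (hx ⟨x, rfl⟩).elim
  haveI := hc.app V
  haveI : Subsingleton Γ(X, c ⁻¹ᵁ V) := hV ▸ (inferInstanceAs (Subsingleton Γ(X, ⊥)))
  haveI : Subsingleton Γ(Y, V) := (ConcreteCategory.bijective_of_isIso (c.app V)).1.subsingleton
  have h1 : (Y.presheaf.germ V y hy).hom 1 = 0 := by rw [Subsingleton.elim (1 : Γ(Y, V)) 0, map_zero]
  rw [map_one] at h1
  exact one_ne_zero h1

theorem IsContr.isPreconnected_fibre (y : Y) : _root_.IsPreconnected (c ⁻¹' {y}) := by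
  haveI := hc.isProper
  haveI := hc.target.isNoetherian
  exact BlanchardNS19.isPreconnected_fibre c (fun U _ => haveI := hc.app U; ConcreteCategory.bijective_of_isIso (c.app U)) y

theorem IsContr.isClosed_image_of_kills {E : Set X} (hE : E ∈ irreducibleComponents (X : Type u)) (h : Kills c E) :
    ∃ y : Y, IsClosed ({y} : Set Y) ∧ c '' E = {y} := by
  haveI := hc.isProper
  obtain ⟨x, hx⟩ := hE.1.nonempty
  have : c '' E = {c x} := Set.Subset.antisymm (fun z hz => h hz ⟨x, hx, rfl⟩) (Set.singleton_subset_iff.2 ⟨x, hx, rfl⟩)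
  exact ⟨c x, this ▸ c.isClosedMap _ (isClosed_of_mem_irreducibleComponents E hE), this⟩

theorem IsContr.finite_inter_fibre {E : Set X} (hE : E ∈ irreducibleComponents (X : Type u)) (h : ¬ Kills c E)
    {y : Y} (hy : IsClosed ({y} : Set Y)) : (c ⁻¹' {y} ∩ E).Finite := by
  haveI := hc.source.isNoetherian
  refine finite_inter_comp hc.source.dim_le (hy.preimage c.continuous) hE fun hsub => h ?_
  rintro _ ⟨a, ha, rfl⟩ _ ⟨b, hb, rfl⟩
  rw [show c a = y from hsub ha, show c b = y from hsub hb]

/-- The image of a component which is not killed is a component. -/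
theorem IsContr.image_mem_components {E : Set X} (hE : E ∈ irreducibleComponents (X : Type u)) (h : ¬ Kills c E) :
    c '' E ∈ irreducibleComponents (Y : Type u) := by
  haveI := hc.isProper
  haveI := hc.target.isNoetherian
  have hcl : IsClosed (c '' E) := c.isClosedMap _ (isClosed_of_mem_irreducibleComponents E hE)
  have hirr : IsIrreducible (c '' E) := hE.1.image c c.continuous.continuousOn
  by_contra hno
  have hno' : ∀ W ∈ irreducibleComponents (Y : Type u), ¬ W ⊆ c '' E := fun W hW hWs =>
    hno (hW.eq_of_subset hirr hWs ▸ hW)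
  have hfin := finite_of_no_comp hc.target.dim_le hcl hno'
  refine h ?_
  haveI := hc.target.proper
  haveI : JacobsonSpace Y := LocallyOfFiniteType.jacobsonSpace (Y ↘ Spec (CommRingCat.of k))
  haveI : JacobsonSpace (c '' E) := JacobsonSpace.of_isClosedEmbedding hcl.isClosedEmbedding_subtypeVal
  haveI := hfin.to_subtype
  haveI : IrreducibleSpace (c '' E) := Subtype.irreducibleSpace hirr
  have hs : (Set.univ : Set (c '' E)).Subsingleton :=
    (PreirreducibleSpace.isPreirreducible_univ (X := (c '' E : Set Y))).subsingleton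
  intro a ha b hb
  exact congrArg Subtype.val (hs (Set.mem_univ ⟨a, ha⟩) (Set.mem_univ ⟨b, hb⟩))

/-- Every component of the target is the image of a component which is not killed. -/
theorem IsContr.exists_comp_over {W : Set Y} (hW : W ∈ irreducibleComponents (Y : Type u)) :
    ∃ E ∈ irreducibleComponents (X : Type u), ¬ Kills c E ∧ c '' E = W := by
  haveI := hc.isProper
  haveI := hc.source.isNoetherian
  haveI := hc.target.isNoetherian
  obtain ⟨η, hη⟩ := QuasiSober.sober hW.1 (isClosed_of_mem_irreducibleComponents W hW)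
  obtain ⟨x, rfl⟩ := hc.surjective η
  obtain ⟨E, hE, hxE⟩ := exists_comp x
  have hsub : W ⊆ c '' E := by
    rw [← hη.def]
    exact closure_minimal (Set.singleton_subset_iff.2 ⟨x, hxE, rfl⟩)
      (c.isClosedMap _ (isClosed_of_mem_irreducibleComponents E hE))
  have heq : W = c '' E := hW.eq_of_subset (hE.1.image c c.continuous.continuousOn) hsub
  exact ⟨E, hE, fun hk => hc.target.comp_not_finite hW (heq ▸ hk.finite), heq.symm⟩

/-- Vanishing on closed subschemes of fibres. -/
theorem IsContr.h1_red {y : Y} (hy : IsClosed ({y} : Set Y)) (Z : Closeds X) (hZ : (Z : Set X) ⊆ c ⁻¹' {y}) :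
    Subsingleton (Hc ((abF (red Z)).obj (Coh.structureModule (red Z))) 1 ⊤) := by
  haveI := hc.isProper
  obtain ⟨V, hV, hyV, -⟩ := exists_isAffineOpen_mem_and_subset (X := Y) (x := y) (U := ⊤) trivial
  have h := ExcH1_18.subsingleton_closed c hV (fun v _ =>
      le_trans (Topology.IsInducing.topologicalKrullDim_le Topology.IsInducing.subtypeVal) hc.source.dim_le)
    (redι Z) (hc.h1 V hV)
  have htop : redι Z ⁻¹ᵁ c ⁻¹ᵁ V = ⊤ := top_le_iff.1 fun z _ => by
    show c (redι Z z) ∈ V
    rw [show c (redι Z z) = y from hZ ((range_redι Z).le ⟨z, rfl⟩)]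
    exact hyV
  rwa [htop] at h

end Groth.Agent.StabUniq18
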