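import Groth.Agent.Lib.StabUniq18.Tree
import Groth.Agent.Lib.CurveCoh17.P1Apps
import Groth.Agent.Lib.GeomRed18.Apps

/-!
# Closed subsets of fibres of a contraction
-/

set_option autoImplicit false
set_option linter.style.haveILetI false
set_option maxHeartbeats 1000000
set_option backward.isDefEq.respectTransparency false
set_option backward.isDefEq.respectTransparency.types false

universe u

open CategoryTheory CategoryTheory.Limits AlgebraicGeometry TopologicalSpace Opposite Set

noncomputable section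

namespace Groth.Agent.StabUniq18

open CohFound

variable {k : Type u} [Field k] [IsAlgClosed k] {X Y : Scheme.{u}}
  [X.Over (Spec (CommRingCat.of k))] [Y.Over (Spec (CommRingCat.of k))]
  {c : X ⟶ Y} (hc : IsContr k c)
include hc

/-- Two connected closed pieces of a fibre meet at most once. -/
theorem IsContr.tree {y : Y} (hy : IsClosed ({y} : Set Y)) {Z₁ Z₂ : Set X} (h₁ : IsClosed Z₁) (h₂ : IsClosed Z₂)
    (h₁p : _root_.IsPreconnected Z₁) (h₂p : _root_.IsPreconnected Z₂) (h₁y : Z₁ ⊆ c ⁻¹' {y}) (h₂y : Z₂ ⊆ c ⁻¹' {y})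
    (hfin : (Z₁ ∩ Z₂).Finite) : (Z₁ ∩ Z₂).Subsingleton := by
  haveI := hc.source.proper
  let Z : Closeds X := ⟨Z₁ ∪ Z₂, h₁.union h₂⟩
  let a := redι Z
  have hr : Set.range a = Z₁ ∪ Z₂ := range_redι Z
  haveI : AlgebraicGeometry.IsReduced (red Z) := RedSepLib.isReduced_vanishingIdeal_subscheme _
  have hpre : ∀ W : Set X, W ⊆ Z₁ ∪ Z₂ → _root_.IsPreconnected W → _root_.IsPreconnected (a ⁻¹' W) := fun W hW hp => by
    refine a.isEmbedding.isInducing.isPreconnected_image.1 ?_
    rwa [Set.image_preimage_eq_of_subset (hr.symm ▸ hW)]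
  have h := subsingleton_inter (a ≫ (X ↘ Spec (CommRingCat.of k)))
    (hc.h1_red hy Z (Set.union_subset h₁y h₂y)) (h₁.preimage a.continuous) (h₂.preimage a.continuous)
    (hpre _ Set.subset_union_left h₁p) (hpre _ Set.subset_union_right h₂p)
    (by rw [← Set.preimage_union, ← hr, Set.preimage_range])
    (by rw [← Set.preimage_inter]; exact hfin.preimage a.isEmbedding.injective.injOn)
  intro p hp q hq
  obtain ⟨p', rfl⟩ : p ∈ Set.range a := hr.symm ▸ Or.inl hp.1
  obtain ⟨q', rfl⟩ : q ∈ Set.range a := hr.symm ▸ Or.inl hq.1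
  exact congrArg a (h hp hq)

/-- A killed component is a projective line. -/
theorem IsContr.iso_P1 {E : Set X} (hE' : E ∈ irreducibleComponents (X : Type u)) (hk : Kills c E) :
    ∃ e : CohB1.ProjSpace 1 k ≅ red (clE hE'),
      e.hom ≫ redι (clE hE') ≫ (X ↘ Spec (CommRingCat.of k)) = CohB1.ProjSpace.toSpec 1 k := by
  haveI := hc.source.proper
  letI : (red (clE hE')).Over (Spec (CommRingCat.of k)) := ⟨redι (clE hE') ≫ (X ↘ Spec (CommRingCat.of k))⟩
  haveI : IsProper (red (clE hE') ↘ Spec (CommRingCat.of k)) :=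
    inferInstanceAs (IsProper (redι (clE hE') ≫ (X ↘ Spec (CommRingCat.of k))))
  haveI := isIntegral_red hE'
  obtain ⟨y, hy, he⟩ := hc.isClosed_image_of_kills hE' hk
  have hH := hc.h1_red hy (clE hE') fun x hx => by
    have hx' : c x ∈ c '' E := ⟨x, hx, rfl⟩
    rw [he] at hx'
    exact hx'
  haveI : Subsingleton (Coh.HH (red (clE hE')) (Coh.structureModule (red (clE hE'))) 1) :=
    (hhExt (Coh.structureModule (red (clE hE'))) 1).toEquiv.subsingleton_congr.2 hH
  have hg : Curv2.genus k (red (clE hE')) = 0 := Module.finrank_zero_of_subsingleton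
  have hdim : topologicalKrullDim (red (clE hE')) = 1 := by
    have h1 := IsHomeomorph.topologicalKrullDim_eq _ (redι (clE hE')).isEmbedding.toHomeomorph.isHomeomorph
    rw [h1]
    have hr : Set.range (redι (clE hE')) = E := range_redι _
    rw [hr]
    exact hc.source.dim E hE'
  haveI : GeometricallyReduced (red (clE hE') ↘ Spec (CommRingCat.of k)) := by
    haveI : IsIso (CommRingCat.ofHom (algebraMap k k)) :=
      (ConcreteCategory.isIso_iff_bijective _).2 Function.bijective_id
    haveI : IsIso (Curv2.bcFst k (red (clE hE')) k) := inferInstanceAs (IsIso (pullback.fst _ _))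
    haveI : AlgebraicGeometry.IsReduced (Curv2.bc k (red (clE hE')) k) :=
      isReduced_of_isOpenImmersion (Curv2.bcFst k (red (clE hE')) k)
    exact GeomRed.geometricallyReduced_of_perfect k
  obtain ⟨x, hx, hpid, hres⟩ := CurveCoh17.exists_rational_regular_point (k := k) hdim
  obtain ⟨e, he'⟩ := CurveCoh17.exists_iso_P1_of_point hdim hg hx hpid hres
  exact ⟨e.symm, by
    show e.inv ≫ (red (clE hE') ↘ Spec (CommRingCat.of k)) = _
    rw [← he', Iso.inv_hom_id_assoc]⟩

end Groth.Agent.StabUniq18
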