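import Groth.Agent.Lib.StabUniq18.Main
import Groth.Agent.Lib.ProjSpace.Basic
import Groth.Agent.Lib.SmoothReg17.Basic
import Groth.Agent.Lib.CurveCoh17.GenusBC
import Groth.Agent.S14467

/-!
# The genus of an irreducible curve with one double point
-/

set_option autoImplicit false
set_option linter.style.haveILetI false
set_option maxHeartbeats 1000000
set_option backward.isDefEq.respectTransparency false
set_option backward.isDefEq.respectTransparency.types false

universe u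

open CategoryTheory CategoryTheory.Limits AlgebraicGeometry TopologicalSpace Opposite Set

noncomputable section

namespace Groth.Agent.StabUniq18

open CohFound

variable {k : Type u} [Field k] [IsAlgClosed k] {X Y₁ Y₂ : Scheme.{u}}
  [X.Over (Spec (CommRingCat.of k))] [Y₁.Over (Spec (CommRingCat.of k))] [Y₂.Over (Spec (CommRingCat.of k))]
  {c₁ : X ⟶ Y₁} {c₂ : X ⟶ Y₂}

/-- A killed component is smooth, hence normal. -/
theorem IsContr.normal_red (hc₁ : IsContr k c₁) {E : Set X} (hE' : E ∈ irreducibleComponents (X : Type u))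
    (hk : Kills c₁ E) :
    Pi1.IsNormalScheme (red (clE hE')) ∧ ∀ z : red (clE hE'), IsRegularLocalRing ((red (clE hE')).presheaf.stalk z) := by
  obtain ⟨e, he⟩ := hc₁.iso_P1 hE' hk
  haveI : SmoothOfRelativeDimension 1 (CohB1.ProjSpace.toSpec 1 k) := ProjSpace.smoothOfRelativeDimension_toSpec 1 k
  haveI : Smooth (CohB1.ProjSpace.toSpec 1 k) := SmoothOfRelativeDimension.smooth 1 _
  let f := redι (clE hE') ≫ (X ↘ Spec (CommRingCat.of k))
  haveI : Smooth f := by
    rw [show f = e.inv ≫ CohB1.ProjSpace.toSpec 1 k by rw [← he, Iso.inv_hom_id_assoc]]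
    infer_instance
  exact ⟨fun z => ⟨SmoothReg17.isDomain_stalk f z, SmoothReg17.isIntegrallyClosed_stalk f z⟩,
    fun z => SmoothReg17.isRegularLocalRing_stalk f z⟩

theorem IsContr.genus_le_one (hc₁ : IsContr k c₁) (hc₂ : IsContr k c₂) [ConnectedSpace Y₂] (i : Alive c₂)
    (hk : Kills c₁ i.1) (huniv : c₂ '' i.1 = Set.univ)
    (hone : ∀ y y' : Y₂, IsClosed ({y} : Set Y₂) → IsClosed ({y'} : Set Y₂) →
      ¬ (c₂ ⁻¹' {y} ∩ i.1).Subsingleton → ¬ (c₂ ⁻¹' {y'} ∩ i.1).Subsingleton → y = y') :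
    Curv2.genus k Y₂ ≤ 1 := by
  classical
  haveI := hc₂.target.proper
  haveI := hc₂.target.isNoetherian
  haveI := hc₂.target.isReduced
  haveI := hc₂.isFinite_hE i
  haveI := isIntegral_red i.2.1
  obtain ⟨hnorm, hregE⟩ := hc₁.normal_red i.2.1 hk
  let bad : Set Y₂ := {y | IsClosed ({y} : Set Y₂) ∧ ¬ (c₂ ⁻¹' {y} ∩ i.1).Subsingleton}
  have hbad : bad.Subsingleton := fun a ha b hb => hone a b ha.1 hb.1 ha.2 hb.2
  have hbadc : IsClosed bad := by
    rcases hbad.eq_empty_or_singleton with h | ⟨y, h⟩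
    · rw [h]; exact isClosed_empty
    · rw [h]; exact (h.symm.subset (Set.mem_singleton y)).1
  let U : Y₂.Opens := ⟨badᶜ, hbadc.isOpen_compl⟩
  haveI := hc₂.isClosedImmersion_hE_restrict i U fun y hy hyc => by
    by_contra h
    exact hy ⟨hyc, h⟩
  haveI : Surjective (hE i ∣_ U) := ⟨fun u => by
    obtain ⟨q, hq, hqu⟩ : u.1 ∈ c₂ '' i.1 := huniv.symm ▸ trivial
    obtain ⟨z, hz⟩ := (mem_range_redι i.2.1).2 hq
    exact ⟨⟨z, show hE i z ∈ U by rw [show hE i z = u.1 from (congrArg c₂ hz).trans hqu]; exact u.2⟩,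
      Subtype.ext ((morphismRestrict_base_coe _ _ _).trans ((congrArg c₂ hz).trans hqu))⟩⟩
  haveI : IsIso (hE i ∣_ U) := isIso_of_isClosedImmersion_of_surjective _
  have hW : (Set.univ : Set Y₂) ∈ irreducibleComponents (Y₂ : Type u) := huniv ▸ hc₂.image_mem_components i.2.1 i.2.2
  have hUne : (U : Set Y₂).Nonempty := by
    by_contra h
    refine hc₂.target.comp_not_finite hW (hbad.finite.subset fun y _ => ?_)
    by_contra hy
    exact h ⟨y, hy⟩
  haveI : IrreducibleSpace Y₂ := (irreducibleSpace_def _).2 hW.1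
  have hU : Dense (U : Set Y₂) := U.2.dense hUne
  have hU' : Dense ((hE i ⁻¹ᵁ U : (red (clE i.2.1)).Opens) : Set (red (clE i.2.1))) := by
    refine (hE i ⁻¹ᵁ U).2.dense ?_
    obtain ⟨y, hy⟩ := hUne
    obtain ⟨q, hq, hqy⟩ : y ∈ c₂ '' i.1 := huniv.symm ▸ trivial
    obtain ⟨z, hz⟩ := (mem_range_redι i.2.1).2 hq
    exact ⟨z, show hE i z ∈ U by rw [show hE i z = y from (congrArg c₂ hz).trans hqy]; exact hy⟩
  have h := S14467.result k Y₂ hc₂.target.dim hc₂.target.nodal (red (clE i.2.1)) (hE i) hnorm U hU hU' inferInstance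
  obtain ⟨y₀, hy₀, he₀⟩ := hc₁.isClosed_image_of_kills i.2.1 hk
  have hH := hc₁.h1_red hy₀ (clE i.2.1) fun x hx => by
    have hx' : c₁ x ∈ c₁ '' i.1 := ⟨x, hx, rfl⟩
    rw [he₀] at hx'
    exact hx'
  letI : (red (clE i.2.1)).Over (Spec (CommRingCat.of k)) := ⟨hE i ≫ (Y₂ ↘ Spec (CommRingCat.of k))⟩
  haveI : Subsingleton (Coh.HH (red (clE i.2.1)) (Coh.structureModule (red (clE i.2.1))) 1) :=
    (hhExt (Coh.structureModule (red (clE i.2.1))) 1).toEquiv.subsingleton_congr.2 hH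
  have hg : Curv2.genus k (red (clE i.2.1)) = 0 := Module.finrank_zero_of_subsingleton
  have hnodes : Nat.card {y : Y₂ // Curv2.IsNode k Y₂ y} ≤ 1 := by
    have key : ∀ y, Curv2.IsNode k Y₂ y → y ∈ bad := by
      intro y hy
      by_contra hyb
      obtain ⟨q, hq, hqy⟩ : y ∈ c₂ '' i.1 := huniv.symm ▸ trivial
      obtain ⟨z, hz⟩ := (mem_range_redι i.2.1).2 hq
      have hzy : hE i z = y := (congrArg c₂ hz).trans hqy
      have hzU : z ∈ hE i ⁻¹ᵁ U := show hE i z ∈ U by rw [hzy]; exact hyb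
      haveI := hregE z
      have e1 := ((hE i ⁻¹ᵁ U).stalkIso ⟨z, hzU⟩).commRingCatIsoToRingEquiv
      haveI : IsRegularLocalRing ((hE i ⁻¹ᵁ U).toScheme.presheaf.stalk ⟨z, hzU⟩) := IsRegularLocalRing.of_ringEquiv e1.symm
      have e2 := (asIso ((hE i ∣_ U).stalkMap ⟨z, hzU⟩)).commRingCatIsoToRingEquiv
      haveI : IsRegularLocalRing (U.toScheme.presheaf.stalk ((hE i ∣_ U) ⟨z, hzU⟩)) := IsRegularLocalRing.of_ringEquiv e2.symm
      have e3 := (U.stalkIso ((hE i ∣_ U) ⟨z, hzU⟩)).commRingCatIsoToRingEquiv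
      have hreg : IsRegularLocalRing (Y₂.presheaf.stalk ((hE i ∣_ U) ⟨z, hzU⟩).1) := IsRegularLocalRing.of_ringEquiv e3
      rw [show ((hE i ∣_ U) ⟨z, hzU⟩).1 = y from (morphismRestrict_base_coe _ _ _).trans hzy] at hreg
      exact not_isNode_of_surjective hc₂.target hy.1 (surjective_of_regular hc₂.target hy.1 hreg) hy
    haveI : Subsingleton {y : Y₂ // Curv2.IsNode k Y₂ y} := ⟨fun a b => Subtype.ext (hbad (key _ a.2) (key _ b.2))⟩
    exact Finite.card_le_one_iff_subsingleton.2 inferInstance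
  haveI : Subsingleton (_root_.ConnectedComponents (red (clE i.2.1))) := ⟨fun a b => by
    obtain ⟨x, rfl⟩ := ConnectedComponents.surjective_coe a
    obtain ⟨y, rfl⟩ := ConnectedComponents.surjective_coe b
    exact ConnectedComponents.coe_eq_coe'.2 (by rw [PreconnectedSpace.connectedComponent_eq_univ]; trivial)⟩
  have hcc : Nat.card (_root_.ConnectedComponents (red (clE i.2.1))) = 1 :=
    Nat.card_eq_one_iff_unique.2 ⟨inferInstance, ⟨ConnectedComponents.mk (genericPoint _)⟩⟩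
  rw [hcc, hg] at h
  omega

end Groth.Agent.StabUniq18
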