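import Groth.Agent.Lib.StabUniq18.Collapse
import Groth.Agent.Lib.Contr18.Factor
import Groth.Agent.Lib.CMReg18.RegPn
import Groth.Agent.Lib.CohFound.ModulesInst
import Groth.Agent.Lib.CurveH1Min27.Subcurve
import Groth.Prelude.Def_StCurv2

/-!
# Uniqueness of contractions of families
-/

set_option autoImplicit false
set_option linter.style.haveILetI false
set_option maxHeartbeats 1000000
set_option backward.isDefEq.respectTransparency false
set_option backward.isDefEq.respectTransparency.types false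

universe u

open CategoryTheory CategoryTheory.Limits AlgebraicGeometry TopologicalSpace Opposite Set

noncomputable section

namespace Groth.Agent.StabUniq18

open CohFound

variable {C T C' : Scheme.{u}}

/-- The contraction property, tested after every base change. -/
def UnivContr (g : C' ⟶ T) (c : C ⟶ C') : Prop :=
  ∀ (T₀ C₀ D₀ : Scheme.{u}) (b : T₀ ⟶ T) (g₀ : D₀ ⟶ T₀) (c₀ : C₀ ⟶ D₀) (pD : D₀ ⟶ C') (pC : C₀ ⟶ C)
    [HasInjectiveResolutions C₀.Modules],
    IsPullback pD g₀ g b → IsPullback pC c₀ c pD →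
      IsIso (ClSub.unitToPush c₀) ∧ IsZero ((Coh.Rpush c₀ 1).obj (Coh.structureModule C₀))

theorem isIso_app_of_isIso_unitToPush {X Y : Scheme.{u}} (f : X ⟶ Y) [IsIso (ClSub.unitToPush f)] (V : Y.Opens) :
    IsIso (f.app V) :=
  (ConcreteCategory.isIso_iff_bijective _).2
    ((ConcreteCategory.isIso_iff_bijective _).1
      ((Scheme.Modules.Hom.isIso_iff_isIso_app (φ := ClSub.unitToPush f)).1 inferInstance V) :)

theorem subsingleton_hc_of_isZero_rpush {X Y : Scheme.{u}} (f : X ⟶ Y) [QuasiCompact f] [QuasiSeparated f]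
    (h : IsZero ((Coh.Rpush f 1).obj (Coh.structureModule X))) (V : Y.Opens) (hV : IsAffineOpen V) :
    Subsingleton (Hc ((abF X).obj (Coh.structureModule X)) 1 (f ⁻¹ᵁ V)) := by
  obtain ⟨a⟩ := CohFound.nonempty_abF_rpush_iso_shPre f (Coh.structureModule X) 1
  obtain ⟨b⟩ := CohFound.nonempty_rpush_iso_shPre (f.base : CohFound.sp X ⟶ CohFound.sp Y)
    ((CohFound.abF X).obj (Coh.structureModule X)) 1
  let c : (CohFound.abF Y).obj ((Coh.Rpush f 1).obj (Coh.structureModule X)) ≅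
      (Coh.RpushAb f 1).obj (Coh.toAb (Coh.structureModule X)) := a ≪≫ b.symm
  haveI : (CohFound.abF Y).PreservesZeroMorphisms := inferInstance
  have h' : IsZero ((Coh.RpushAb f 1).obj (Coh.toAb (Coh.structureModule X))) :=
    ((CohFound.abF Y).map_isZero h).of_iso c.symm
  obtain ⟨e⟩ := CohFound.nonempty_sections_rpushAb f (M1.isQCoh_structureModule X) 1 hV
  have hz : IsZero ((((CohTop.Rpush (f.base : sp X ⟶ sp Y) 1).obj ((abF X).obj (Coh.structureModule X))).obj).obj (op V)) :=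
    ((sheafToPresheaf _ _) ⋙ (evaluation _ _).obj (op V)).map_isZero h'
  haveI := AddCommGrpCat.subsingleton_of_isZero hz
  exact e.symm.injective.subsingleton

/-- Components of a connected one-dimensional curve are one-dimensional. -/
theorem dim_components {X : Scheme.{u}} [IsNoetherian X] [ConnectedSpace X] (hd : topologicalKrullDim X = 1)
    (E : Set X) (hE : E ∈ irreducibleComponents (X : Type u)) : topologicalKrullDim E = 1 := by
  refine le_antisymm (hd ▸ topologicalKrullDim_subspace_le X E) ?_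
  by_cases hs : E.Subsingleton
  · exfalso
    obtain ⟨p, hp⟩ := hE.1.nonempty
    have hEp : E = {p} := Set.Subset.antisymm (fun q hq => hs hq hp) (Set.singleton_subset_iff.2 hp)
    have huniv : E = Set.univ := by
      by_contra hne
      obtain ⟨z, hz⟩ := (Set.ne_univ_iff_exists_notMem _).1 hne
      obtain ⟨w, -, hwE, V, hV, hwV⟩ := isPreconnected_closed_iff.1 isPreconnected_univ E
        (⋃₀ {V ∈ irreducibleComponents (X : Type u) | V ≠ E}) (isClosed_of_mem_irreducibleComponents E hE)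
        (isSubcurve_biUnion (sep_subset _ _)).closed
        (fun v _ => by
          obtain ⟨V, hV, hvV⟩ := exists_comp v
          exact (em (V = E)).elim (fun e => Or.inl (e ▸ hvV)) fun e => Or.inr ⟨V, ⟨hV, e⟩, hvV⟩)
        ⟨p, trivial, hp⟩ (by
          obtain ⟨V, hV, hzV⟩ := exists_comp z
          exact ⟨z, trivial, V, ⟨hV, fun e => hz (e ▸ hzV)⟩, hzV⟩)
      refine hV.2 (eq_of_comp_subset hE hV.1 ?_).symm
      rw [hEp, Set.singleton_subset_iff]
      rwa [hs hwE hp] at hwV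
    haveI : Subsingleton X := ⟨fun a b => hs (huniv.symm ▸ trivial) (huniv.symm ▸ trivial)⟩
    have h0 := topologicalKrullDim_zero_of_discreteTopology X
    rw [hd] at h0
    exact absurd h0 (not_le.2 zero_lt_one)
  · obtain ⟨γ, hγ⟩ := QuasiSober.sober hE.1 (isClosed_of_mem_irreducibleComponents E hE)
    obtain ⟨z, hz, hne⟩ : ∃ z ∈ E, z ≠ γ := by
      by_contra h
      push Not at h
      exact hs fun a ha b hb => (h a ha).trans (h b hb).symm
    exact CurveH1Min27.one_le_dim_of_specializes (Y := E) (a := ⟨γ, hγ.mem⟩) (b := ⟨z, hz⟩)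
      ((subtype_specializes_iff _ _).2 (hγ.specializes hz)) (fun e => hne (congrArg Subtype.val e))

variable {C₁ C₂ : Scheme.{u}} (f : C ⟶ T) (g₁ : C₁ ⟶ T) (c₁ : C ⟶ C₁) (g₂ : C₂ ⟶ T) (c₂ : C ⟶ C₂)

/-- The collapsing condition on a geometric fibre. -/
def FibreOK : Prop :=
  ∀ (Ω : Type u) [Field Ω] [IsAlgClosed Ω] (t : Spec (CommRingCat.of Ω) ⟶ T) (X Y₁ Y₂ : Scheme.{u})
    (iX : X ⟶ C) (q : X ⟶ Spec (CommRingCat.of Ω)) (j₁ : Y₁ ⟶ C₁) (r₁ : Y₁ ⟶ Spec (CommRingCat.of Ω))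
    (j₂ : Y₂ ⟶ C₂) (r₂ : Y₂ ⟶ Spec (CommRingCat.of Ω)) (d₁ : X ⟶ Y₁) (d₂ : X ⟶ Y₂),
    IsPullback iX q f t → IsPullback j₁ r₁ g₁ t → IsPullback j₂ r₂ g₂ t →
      IsPullback iX d₁ c₁ j₁ → IsPullback iX d₂ c₂ j₂ → d₁ ≫ r₁ = q → d₂ ≫ r₂ = q →
      (∀ a b : X, d₁ a = d₁ b → d₂ a = d₂ b) ∧ ∀ a b : X, d₂ a = d₂ b → d₁ a = d₁ b

theorem collapse_points (hc₁ : c₁ ≫ g₁ = f) (hc₂ : c₂ ≫ g₂ = f) (h : FibreOK f g₁ c₁ g₂ c₂) :
    (∀ a b : C, c₁ a = c₁ b → c₂ a = c₂ b) ∧ ∀ a b : C, c₂ a = c₂ b → c₁ a = c₁ b := by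
  have key : ∀ a b : C, f a = f b →
      (c₁ a = c₁ b → c₂ a = c₂ b) ∧ (c₂ a = c₂ b → c₁ a = c₁ b) := by
    intro a b hab
    let Ω := AlgebraicClosure (T.residueField (f a))
    let t : Spec (CommRingCat.of Ω) ⟶ T :=
      Spec.map (CommRingCat.ofHom (algebraMap (T.residueField (f a)) Ω)) ≫ T.fromSpecResidueField (f a)
    have ht : ∀ z, t z = f a := fun z => by
      rw [Scheme.Hom.comp_apply]; exact T.fromSpecResidueField_apply _ _
    let Y₁ := pullback g₁ t
    let Y₂ := pullback g₂ t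
    let X := pullback f t
    let d₁ : X ⟶ Y₁ := pullback.lift (pullback.fst f t ≫ c₁) (pullback.snd f t)
      (by rw [Category.assoc, hc₁, pullback.condition])
    let d₂ : X ⟶ Y₂ := pullback.lift (pullback.fst f t ≫ c₂) (pullback.snd f t)
      (by rw [Category.assoc, hc₂, pullback.condition])
    have hd₁ : d₁ ≫ pullback.fst g₁ t = pullback.fst f t ≫ c₁ := pullback.lift_fst _ _ _
    have hd₂ : d₂ ≫ pullback.fst g₂ t = pullback.fst f t ≫ c₂ := pullback.lift_fst _ _ _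
    have hX : IsPullback (pullback.fst f t) (pullback.snd f t) f t := IsPullback.of_hasPullback f t
    have hq₁ : IsPullback (pullback.fst f t) d₁ c₁ (pullback.fst g₁ t) := by
      refine IsPullback.of_bot ?_ hd₁.symm (IsPullback.of_hasPullback g₁ t)
      rw [pullback.lift_snd, hc₁]
      exact hX
    have hq₂ : IsPullback (pullback.fst f t) d₂ c₂ (pullback.fst g₂ t) := by
      refine IsPullback.of_bot ?_ hd₂.symm (IsPullback.of_hasPullback g₂ t)
      rw [pullback.lift_snd, hc₂]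
      exact hX
    obtain ⟨h12, h21⟩ := h Ω t X Y₁ Y₂ _ _ _ _ _ _ d₁ d₂ hX (IsPullback.of_hasPullback g₁ t)
      (IsPullback.of_hasPullback g₂ t) hq₁ hq₂ (pullback.lift_snd _ _ _) (pullback.lift_snd _ _ _)
    have z₀ : Spec (CommRingCat.of Ω) := IsLocalRing.closedPoint Ω
    constructor
    · intro e
      obtain ⟨yt, hy, -⟩ := Contr18.exists_of_isPullback (IsPullback.of_hasPullback g₁ t) (x := c₁ a) (z := z₀)
        (by rw [← Scheme.Hom.comp_apply, hc₁, ht])
      obtain ⟨a', ha, ha'⟩ := Contr18.exists_of_isPullback hq₁ (x := a) (z := yt) hy.symm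
      obtain ⟨b', hb, hb'⟩ := Contr18.exists_of_isPullback hq₁ (x := b) (z := yt) (e.symm.trans hy.symm)
      have := congrArg (pullback.fst g₂ t) (h12 a' b' (ha'.trans hb'.symm))
      rwa [← Scheme.Hom.comp_apply, ← Scheme.Hom.comp_apply d₂, hd₂, Scheme.Hom.comp_apply, Scheme.Hom.comp_apply,
        ha, hb] at this
    · intro e
      obtain ⟨yt, hy, -⟩ := Contr18.exists_of_isPullback (IsPullback.of_hasPullback g₂ t) (x := c₂ a) (z := z₀)
        (by rw [← Scheme.Hom.comp_apply, hc₂, ht])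
      obtain ⟨a', ha, ha'⟩ := Contr18.exists_of_isPullback hq₂ (x := a) (z := yt) hy.symm
      obtain ⟨b', hb, hb'⟩ := Contr18.exists_of_isPullback hq₂ (x := b) (z := yt) (e.symm.trans hy.symm)
      have := congrArg (pullback.fst g₁ t) (h21 a' b' (ha'.trans hb'.symm))
      rwa [← Scheme.Hom.comp_apply, ← Scheme.Hom.comp_apply d₁, hd₁, Scheme.Hom.comp_apply, Scheme.Hom.comp_apply,
        ha, hb] at this
  refine ⟨fun a b e => (key a b ?_).1 e, fun a b e => (key a b ?_).2 e⟩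
  · rw [← hc₁, Scheme.Hom.comp_apply, Scheme.Hom.comp_apply, e]
  · rw [← hc₂, Scheme.Hom.comp_apply, Scheme.Hom.comp_apply, e]

/-- Uniqueness of contractions with the same fibres. -/
theorem existsUnique_iso [IsProper f] [IsProper g₁] [IsProper g₂] (hc₁ : c₁ ≫ g₁ = f) (hc₂ : c₂ ≫ g₂ = f)
    (hu₁ : UnivContr g₁ c₁) (hu₂ : UnivContr g₂ c₂) (h : FibreOK f g₁ c₁ g₂ c₂) :
    ∃! e : C₁ ≅ C₂, c₁ ≫ e.hom = c₂ := by
  haveI : IsProper (c₁ ≫ g₁) := hc₁.symm ▸ inferInstance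
  haveI : IsProper (c₂ ≫ g₂) := hc₂.symm ▸ inferInstance
  haveI : IsProper c₁ := IsProper.of_comp c₁ g₁
  haveI : IsProper c₂ := IsProper.of_comp c₂ g₂
  have app : ∀ {D : Scheme.{u}} (g : D ⟶ T) (c : C ⟶ D), UnivContr g c → ∀ V : D.Opens, IsIso (c.app V) :=
    fun {D} g c hu V => by
      haveI := (hu T C D (𝟙 T) g c (𝟙 D) (𝟙 C) (IsPullback.of_horiz_isIso ⟨by simp⟩)
        (IsPullback.of_horiz_isIso ⟨by simp⟩)).1
      exact isIso_app_of_isIso_unitToPush c V
  have happ₁ := app g₁ c₁ hu₁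
  have happ₂ := app g₂ c₂ hu₂
  obtain ⟨h12, h21⟩ := collapse_points f g₁ c₁ g₂ c₂ hc₁ hc₂ h
  have mk : ∀ {D D' : Scheme.{u}} (g : D ⟶ T) (g' : D' ⟶ T) (c : C ⟶ D) (c' : C ⟶ D') [IsProper c] [IsProper g'],
      c ≫ g = c' ≫ g' → (∀ V : D.Opens, IsIso (c.app V)) → (∀ a b, c a = c b → c' a = c' b) →
      ∃ φ : D ⟶ D', c ≫ φ = c' := by
    intro D D' g g' c c' _ _ hw happ hp
    obtain ⟨φ, hφ, -⟩ := Contr18.exists_hom c g g' c' hw ⊤ (fun W => by
        rw [morphismRestrict_app]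
        haveI := happ ((g ⁻¹ᵁ ⊤).ι ''ᵁ W)
        infer_instance) fun y _ => by
      by_cases hy : ∃ p, c p = y
      · obtain ⟨p, hp'⟩ := hy
        exact ⟨c' p, fun q hq => hp q p (hq.trans hp'.symm)⟩
      · haveI : Surjective c := ⟨fun z => by
          by_contra hz
          let V : D.Opens := ⟨(Set.range c)ᶜ, c.isClosedMap.isClosed_range.isOpen_compl⟩
          have hV : c ⁻¹ᵁ V = ⊥ := by
            rw [eq_bot_iff]; exact fun x hx => (hx ⟨x, rfl⟩).elim
          haveI := happ V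
          haveI : Subsingleton Γ(C, c ⁻¹ᵁ V) := hV ▸ (inferInstanceAs (Subsingleton Γ(C, ⊥)))
          haveI : Subsingleton Γ(D, V) := (ConcreteCategory.bijective_of_isIso (c.app V)).1.subsingleton
          have h1 : (D.presheaf.germ V z (fun h => hz h)).hom 1 = 0 := by
            rw [Subsingleton.elim (1 : Γ(D, V)) 0, map_zero]
          rw [map_one] at h1
          exact one_ne_zero h1⟩
        exact absurd (c.surjective y) hy
    haveI : IsIso (g ⁻¹ᵁ ⊤).ι := (Scheme.topIso D).isIso_hom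
    haveI : IsIso (c ⁻¹ᵁ g ⁻¹ᵁ ⊤).ι := (Scheme.topIso C).isIso_hom
    refine ⟨inv (g ⁻¹ᵁ ⊤).ι ≫ φ ≫ (g' ⁻¹ᵁ ⊤).ι, ?_⟩
    rw [← cancel_epi (c ⁻¹ᵁ g ⁻¹ᵁ ⊤).ι, ← hφ, ← morphismRestrict_ι_assoc, IsIso.hom_inv_id_assoc]
  obtain ⟨φ, hφ⟩ := mk g₁ g₂ c₁ c₂ (hc₁.trans hc₂.symm) happ₁ h12
  obtain ⟨ψ, hψ⟩ := mk g₂ g₁ c₂ c₁ (hc₂.trans hc₁.symm) happ₂ h21
  refine ⟨⟨φ, ψ, Contr18.cancel_of_isIso_app c₁ happ₁ (by rw [← Category.assoc, hφ, hψ, Category.comp_id]),
    Contr18.cancel_of_isIso_app c₂ happ₂ (by rw [← Category.assoc, hψ, hφ, Category.comp_id])⟩, hφ, fun e he => ?_⟩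
  exact Iso.ext (Contr18.cancel_of_isIso_app c₁ happ₁ (he.trans hφ.symm))

end Groth.Agent.StabUniq18
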