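import Groth.Agent.Lib.StabUniq18.Geo
import Groth.Agent.Lib.CurveCoh17.P1Genus
import Groth.Agent.Lib.H0Comp5.Main
import Groth.Prelude.Def_Curv2

/-!
# A projective line with at most two neighbours is a tail or a bridge
-/

set_option autoImplicit false
set_option linter.style.haveILetI false
set_option maxHeartbeats 1000000
set_option backward.isDefEq.respectTransparency false
set_option backward.isDefEq.respectTransparency.types false

universe u

open CategoryTheory CategoryTheory.Limits AlgebraicGeometry TopologicalSpace Opposite Set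

noncomputable section

namespace Groth.Agent.StabUniq18

open CohFound

variable {k : Type u} [Field k] [IsAlgClosed k] {Y : Scheme.{u}} [Y.Over (Spec (CommRingCat.of k))]

theorem mem_vanishing_iff (Z : Closeds Y) (V : Y.affineOpens) (a : Γ(Y, V.1)) :
    a ∈ (Scheme.IdealSheafData.vanishingIdeal Z).ideal V ↔ ∀ z ∈ Z, z ∉ Y.basicOpen a := by
  rw [Scheme.IdealSheafData.vanishingIdeal_ideal, PrimeSpectrum.mem_vanishingIdeal]
  constructor
  · intro h z hz hzb
    have hzV : z ∈ V.1 := Y.basicOpen_le a hzb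
    refine (mem_basicOpen_iff_notMem V.2 a hzV).1 hzb (h _ ?_)
    show V.2.fromSpec _ ∈ Z
    rw [V.2.fromSpec_primeIdealOf ⟨z, hzV⟩]
    exact hz
  · intro h p hp
    obtain ⟨hpV, hpp⟩ := eq_primeIdealOf V.2 p
    rw [← hpp]
    by_contra hne
    exact h _ hp ((mem_basicOpen_iff_notMem V.2 a hpV).2 hne)

/-- The kernel of an open immersion of a reduced scheme is the vanishing ideal of the closure. -/
theorem ker_opens_ι [IsNoetherian Y] [AlgebraicGeometry.IsReduced Y] (U : Y.Opens) :
    U.ι.ker = Scheme.IdealSheafData.vanishingIdeal (Closeds.closure (U : Set Y)) := by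
  haveI : QuasiCompact U.ι := inferInstance
  refine le_antisymm ?_ ?_
  · refine Scheme.IdealSheafData.le_support_iff_le_vanishingIdeal.1 ?_
    intro z hz
    show z ∈ (U.ι.ker.support : Set Y)
    rw [Scheme.Hom.support_ker, Scheme.Opens.range_ι]
    exact hz
  · refine Scheme.IdealSheafData.le_ofIdeals_iff.2 fun V a ha => ?_
    rw [RingHom.mem_ker, ← basicOpen_eq_bot_iff, ← Scheme.preimage_basicOpen]
    refine eq_bot_iff.2 fun z hz => ?_
    exact ((mem_vanishing_iff _ V a).1 ha _ (subset_closure z.2) hz).elim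

/-- A prime of the product of the components comes from a component. -/
theorem exists_primeAt {c : Y ⟶ Y} (hc : IsContr k c) {V : Y.Opens} (hV : IsAffineOpen V) {Q : Ideal (BB c V)}
    (hQ : Q.IsPrime) :
    ∃ (i : Alive c) (hVi : IsAffineOpen (hE i ⁻¹ᵁ V)) (w : ↥(hE i ⁻¹ᵁ V)), Q = primeAt i hVi w := by
  classical
  haveI := hc.finite_alive
  haveI := hQ
  obtain ⟨i, hi⟩ : ∃ i : Alive c, (Pi.single i 1 : BB c V) ∉ Q := by
    by_contra h
    push Not at h
    haveI : Fintype (Alive c) := Fintype.ofFinite _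
    refine hQ.ne_top ((Ideal.eq_top_iff_one _).2 ?_)
    rw [← Finset.univ_sum_single (1 : BB c V)]
    exact Q.sum_mem fun i _ => h i
  have hVi : IsAffineOpen (hE i ⁻¹ᵁ V) := by
    haveI := hc.isFinite_hE i
    exact hV.preimage (hE i)
  let ev : BB c V →+* Γ(red (clE i.2.1), hE i ⁻¹ᵁ V) := Pi.evalRingHom _ i
  have hker : RingHom.ker ev ≤ Q := fun x hx => by
    refine (hQ.mem_or_mem ?_).resolve_left hi
    convert Q.zero_mem
    funext j
    by_cases hji : j = i
    · subst hji
      show _ * x j = 0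
      rw [show x j = 0 from hx, mul_zero]
    · show (Pi.single i 1 : BB c V) j * x j = 0
      rw [Pi.single_eq_of_ne hji, zero_mul]
  have hsurj : Function.Surjective ev := surjective_eval i
  have hq : (Q.map ev).IsPrime := Ideal.map_isPrime_of_surjective hsurj hker
  obtain ⟨hw, hwq⟩ := eq_primeIdealOf hVi ⟨Q.map ev, hq⟩
  refine ⟨i, hVi, ⟨_, hw⟩, ?_⟩
  show Q = ((hVi.primeIdealOf ⟨_, hw⟩).asIdeal).comap ev
  rw [hwq, Ideal.comap_map_of_surjective ev hsurj, ← RingHom.ker_eq_comap_bot, sup_eq_left.2 hker]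

variable (hY : IsNodalCurve k Y) [ConnectedSpace Y]
include hY

/-- A component and the rest of the curve cut out their common points. -/
theorem IsNodalCurve.vanishing_sup {W : Set Y} (hW : W ∈ irreducibleComponents (Y : Type u)) :
    Scheme.IdealSheafData.vanishingIdeal (clE hW) ⊔ Scheme.IdealSheafData.vanishingIdeal (Closeds.closure Wᶜ) =
      Scheme.IdealSheafData.vanishingIdeal (clE hW ⊓ Closeds.closure Wᶜ) := by
  classical
  refine le_antisymm (sup_le ?_ ?_) ?_
  · exact Scheme.IdealSheafData.gc.monotone_u (OrderDual.toDual_le_toDual.2 inf_le_left)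
  · exact Scheme.IdealSheafData.gc.monotone_u (OrderDual.toDual_le_toDual.2 inf_le_right)
  intro V a ha
  rw [mem_vanishing_iff] at ha
  rw [Scheme.IdealSheafData.ideal_sup]
  have hc := hY.isContr_id
  haveI := hc.target.proper
  haveI := hc.target.isReduced
  haveI := hc.target.isNoetherian
  haveI : IsNoetherianRing Γ(Y, V.1) := IsLocallyNoetherian.component_noetherian V
  haveI := hc.finite_BB V.2
  haveI : JacobsonSpace Y := LocallyOfFiniteType.jacobsonSpace (Y ↘ Spec (CommRingCat.of k))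
  let iW : Alive (𝟙 Y) := ⟨W, hW, not_kills_id hY hW⟩
  let φ := algebraMap Γ(Y, V.1) (BB (𝟙 Y) V.1)
  let t : BB (𝟙 Y) V.1 := Pi.single iW (φ a iW)
  have hloc : ∀ M : Ideal Γ(Y, V.1), M.IsMaximal → ∃ m ∉ M, ∃ a', φ m * t = φ a' := by
    intro M hM
    obtain ⟨hyV, hyM⟩ := eq_primeIdealOf V.2 ⟨M, hM.isPrime⟩
    set y := V.2.fromSpec ⟨M, hM.isPrime⟩
    have hyc : IsClosed ({y} : Set Y) := by
      refine isClosed_singleton_of_isLocallyClosed_singleton ?_
      have h1 : IsClosed ({⟨M, hM.isPrime⟩} : Set (Spec Γ(Y, V.1))) :=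
        (PrimeSpectrum.isClosed_singleton_iff_isMaximal _).2 hM
      have := h1.isLocallyClosed.image V.2.fromSpec.isOpenEmbedding.isInducing
        V.2.fromSpec.isOpenEmbedding.isOpen_range.isLocallyClosed
      rwa [Set.image_singleton] at this
    letI := TopCat.Presheaf.algebra_section_stalk Y.presheaf (⟨y, hyV⟩ : V.1)
    haveI := V.2.isLocalization_stalk ⟨y, hyV⟩
    have hMeq : (V.2.primeIdealOf ⟨y, hyV⟩).asIdeal = M := congrArg PrimeSpectrum.asIdeal hyM
    haveI : (V.2.primeIdealOf ⟨y, hyV⟩).asIdeal.IsMaximal := hMeq.symm ▸ hM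
    obtain ⟨hred, hm⟩ := hc.stalk_setup hyc
    haveI := hred
    obtain ⟨a₀, h₀⟩ : ∃ a₀ : Γ(Y, V.1), ∀ Q : Ideal (BB (𝟙 Y) V.1), Q.IsPrime →
        Q.comap φ = (V.2.primeIdealOf ⟨y, hyV⟩).asIdeal → t - φ a₀ ∈ Q := by
      refine ⟨if y ∈ W then a else 0, fun Q hQ hQy => ?_⟩
      obtain ⟨i, hVi, w, rfl⟩ := exists_primeAt hc V.2 hQ
      rw [comap_primeAt V.2] at hQy
      have hwy : hE i w.1 = y := primeIdealOf_injective V.2 w.2 hyV (PrimeSpectrum.ext hQy)
      have hyi : y ∈ i.1 := hwy ▸ (mem_range_redι i.2.1).1 ⟨w.1, rfl⟩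
      show (t - φ _) i ∈ (hVi.primeIdealOf w).asIdeal
      by_cases hi : i = iW
      · subst hi
        rw [if_pos hyi, Pi.sub_apply]
        simp [t]
      · have hz : t i = 0 := by simp [t, Pi.single_eq_of_ne hi]
        rw [Pi.sub_apply, hz, zero_sub]
        refine neg_mem ?_
        by_cases hyW : y ∈ W
        · rw [if_pos hyW]
          have hyS : y ∈ clE hW ⊓ Closeds.closure Wᶜ := by
            refine ⟨hyW, ?_⟩
            exact (mem_bdry_of_comp (isClosed_of_mem_irreducibleComponents W hW) i.2.1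
              (fun h => hi (Subtype.ext (eq_of_comp_subset i.2.1 hW h))) hyi hyW).2
          by_contra hb
          have hwb : w.1 ∈ (red (clE i.2.1)).basicOpen ((hE i).app V.1 a) := (mem_basicOpen_iff_notMem hVi _ w.2).2 hb
          rw [← Scheme.preimage_basicOpen] at hwb
          exact ha y hyS (hwy ▸ hwb)
        · rw [if_neg hyW, map_zero]
          exact Ideal.zero_mem _
    obtain ⟨m, hm', a', ha'⟩ := exists_smul_eq (V.2.primeIdealOf ⟨y, hyV⟩).asIdeal (Y.presheaf.stalk y)
      (hc.birat V.2) hm (t - φ a₀) h₀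
    refine ⟨m, hMeq ▸ hm', a' + m * a₀, ?_⟩
    rw [map_add, map_mul, ← ha', mul_sub, sub_add_cancel]
  obtain ⟨a₂, ha₂⟩ : ∃ a₂, φ a₂ = t := by
    let J : Ideal Γ(Y, V.1) :=
      { carrier := {m | ∃ a', φ a' = φ m * t}
        add_mem' := fun ⟨b, hb⟩ ⟨b', hb'⟩ => ⟨b + b', by rw [map_add, map_add, hb, hb', add_mul]⟩
        zero_mem' := ⟨0, by rw [map_zero, zero_mul]⟩
        smul_mem' := fun r m ⟨b, hb⟩ => ⟨r * b, by rw [smul_eq_mul, map_mul, map_mul, hb, mul_assoc]⟩ }
    have hJ : J = ⊤ := by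
      by_contra h
      obtain ⟨M, hM, hJM⟩ := Ideal.exists_le_maximal J h
      obtain ⟨m, hm, a', ha'⟩ := hloc M hM
      exact hm (hJM ⟨a', ha'.symm⟩)
    obtain ⟨b, hb⟩ : (1 : Γ(Y, V.1)) ∈ J := hJ.symm ▸ Submodule.mem_top
    exact ⟨b, by rwa [map_one, one_mul] at hb⟩
  refine Submodule.mem_sup.2 ⟨a - a₂, ?_, a₂, ?_, sub_add_cancel a a₂⟩
  · refine (mem_vanishing_iff _ V _).2 fun z hz hzb => ?_
    obtain ⟨w, hw⟩ := (mem_range_redι iW.2.1).2 (hz : z ∈ iW.1)
    have hwb : w ∈ hE iW ⁻¹ᵁ Y.basicOpen (a - a₂) := by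
      show hE iW w ∈ Y.basicOpen (a - a₂)
      simpa [hw] using hzb
    rw [Scheme.preimage_basicOpen] at hwb
    have e : (hE iW).app V.1 (a - a₂) = 0 := by
      rw [map_sub, sub_eq_zero]
      have h1 := congrFun ha₂ iW
      simp only [t, Pi.single_eq_same] at h1
      exact h1.symm
    rw [e, Scheme.basicOpen_zero] at hwb
    exact hwb.elim
  · refine (mem_vanishing_iff _ V _).2 fun z hz hzb => ?_
    have hz' : z ∈ closure Wᶜ := hz
    obtain ⟨E, ⟨hE', hEW⟩, hzE⟩ := closure_compl_subset hz'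
    let i : Alive (𝟙 Y) := ⟨E, hE', not_kills_id hY hE'⟩
    obtain ⟨w, hw⟩ := (mem_range_redι i.2.1).2 (hzE : z ∈ i.1)
    have hwb : w ∈ hE i ⁻¹ᵁ Y.basicOpen a₂ := by
      show hE i w ∈ Y.basicOpen a₂
      simpa [hw] using hzb
    rw [Scheme.preimage_basicOpen] at hwb
    have e : (hE i).app V.1 a₂ = 0 := by
      have h1 := congrFun ha₂ i
      rw [show t i = 0 by simp [t, Pi.single_eq_of_ne (fun e : i = iW => hEW (congrArg Subtype.val e).le)]] at h1
      exact h1
    rw [e, Scheme.basicOpen_zero] at hwb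
    exact hwb.elim

/-- The dimension of the global functions of a reduced closed subscheme counts connected components. -/
theorem IsNodalCurve.finrank_quot (Z : Closeds Y) :
    Module.finrank k (Coh.HH Y (ClSub.quotMod (Scheme.IdealSheafData.vanishingIdeal Z)) 0) =
      Nat.card (_root_.ConnectedComponents (red Z)) := by
  haveI := hY.proper
  letI : (red Z).Over (Spec (CommRingCat.of k)) := ⟨redι Z ≫ (Y ↘ Spec (CommRingCat.of k))⟩
  haveI : IsProper (red Z ↘ Spec (CommRingCat.of k)) :=
    inferInstanceAs (IsProper (redι Z ≫ (Y ↘ Spec (CommRingCat.of k))))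
  haveI : AlgebraicGeometry.IsReduced (red Z) := RedSepLib.isReduced_vanishingIdeal_subscheme _
  haveI : (Coh.structureModule (red Z)).IsQuasicoherent := M1.isQCoh_structureModule _
  obtain ⟨e⟩ := CurveCoh17.nonempty_hequiv_push (A := k) (redι Z) rfl (Coh.structureModule (red Z)) 0
  rw [← H0Comp5.finrank_h0_eq_card (k := k)]
  exact e.finrank_eq

/-- A projective line meeting the rest at most twice is a tail, a bridge, or everything. -/
theorem IsNodalCurve.false_of_P1 (hg : 2 ≤ Curv2.genus k Y)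
    (hnt : ∀ (Z : Set Y) (hZ : Z ∈ irreducibleComponents (Y : Type u)),
      ¬ Curv2.IsRationalTail Y Z hZ ∧ ¬ Curv2.IsRationalBridge k Y Z hZ)
    {W : Set Y} (hW : CurvSt.IsSmRatComp k Y (Y ↘ Spec (CommRingCat.of k)) W)
    (hle : (CurvSt.meetPts Y W).encard ≤ 2) : False := by
  classical
  obtain ⟨hWc, e, hecl, hek, her⟩ := hW
  haveI := hecl
  haveI := hY.proper
  haveI := hY.isReduced
  haveI := hY.isNoetherian
  haveI := isIntegral_red hWc
  let P := CohB1.ProjSpace 1 k
  letI : P.Over (Spec (CommRingCat.of k)) := ⟨CohB1.ProjSpace.toSpec 1 k⟩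
  letI : (red (clE hWc)).Over (Spec (CommRingCat.of k)) := ⟨redι (clE hWc) ≫ (Y ↘ Spec (CommRingCat.of k))⟩
  haveI : IsProper (red (clE hWc) ↘ Spec (CommRingCat.of k)) :=
    inferInstanceAs (IsProper (redι (clE hWc) ≫ (Y ↘ Spec (CommRingCat.of k))))
  obtain ⟨φ, hφ⟩ : ∃ φ : red (clE hWc) ⟶ P, φ ≫ e = redι (clE hWc) :=
    ⟨IsClosedImmersion.lift e (redι (clE hWc)) (by
      rw [show (redι (clE hWc)).ker = Scheme.IdealSheafData.vanishingIdeal (clE hWc) from
        Scheme.IdealSheafData.ker_subschemeι _]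
      refine Scheme.IdealSheafData.le_support_iff_le_vanishingIdeal.1 fun z hz => ?_
      show z ∈ (e.ker.support : Set Y)
      rw [Scheme.Hom.support_ker]
      exact subset_closure (her.symm.subset hz)), IsClosedImmersion.lift_fac _ _ _⟩
  haveI : IsClosedImmersion φ := by
    haveI : IsClosedImmersion (φ ≫ e) := hφ ▸ inferInstance
    exact IsClosedImmersion.of_comp φ e
  haveI : AlgebraicGeometry.IsReduced P := by
    haveI : SmoothOfRelativeDimension 1 (CohB1.ProjSpace.toSpec 1 k) := ProjSpace.smoothOfRelativeDimension_toSpec 1 k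
    haveI : Smooth (CohB1.ProjSpace.toSpec 1 k) := SmoothOfRelativeDimension.smooth 1 _
    haveI : ∀ z : P, _root_.IsReduced (P.presheaf.stalk z) := fun z => by
      haveI := SmoothReg17.isDomain_stalk (CohB1.ProjSpace.toSpec 1 k) z
      infer_instance
    exact isReduced_of_isReduced_stalk P
  haveI : Surjective φ := ⟨fun p => by
    obtain ⟨z, hz⟩ := (mem_range_redι hWc).2 (her.subset ⟨p, rfl⟩)
    exact ⟨z, e.isEmbedding.injective (by rw [← Scheme.Hom.comp_apply, hφ]; exact hz)⟩⟩
  haveI : IsIso φ := isIso_of_isClosedImmersion_of_surjective φ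
  have hgW : Curv2.genus k (red (clE hWc)) = 0 := by
    rw [CurveCoh17.genus_eq_of_iso φ (by
      show φ ≫ CohB1.ProjSpace.toSpec 1 k = redι (clE hWc) ≫ _
      rw [← hek, reassoc_of% hφ])]
    exact CurveCoh17.genus_P1 k
  haveI : Module.Finite k (Coh.HH (red (clE hWc)) (Coh.structureModule (red (clE hWc))) 1) :=
    CohFound.finite_HH_of_isProper _ CurveCoh17.isCoh_structureModule 1
  have hH : Subsingleton (Coh.HH (red (clE hWc)) (Coh.structureModule (red (clE hWc))) 1) :=
    Module.finrank_zero_iff.1 hgW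
  have hmeet : CurvSt.meetPts Y W = W ∩ closure Wᶜ := by
    refine Set.Subset.antisymm ?_ ?_
    · rintro z ⟨hzW, W', hW', hne, hzW'⟩
      exact mem_bdry_of_comp (isClosed_of_mem_irreducibleComponents W hWc) hW'
        (fun h => hne (eq_of_comp_subset hW' hWc h)) hzW' hzW
    · intro z hz
      obtain ⟨hzW, E', hE', hEW, hzE⟩ := bdry_subset (D := W) hz
      exact ⟨hzW, E', hE', fun h => hEW h.le, hzE⟩
  by_cases huniv : W = Set.univ
  · have hall : (⊤ : Closeds Y) ≤ clE hWc := fun z _ => huniv.symm ▸ trivial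
    haveI : Surjective (redι (clE hWc)) := ⟨fun z => (mem_range_redι hWc).2 (hall trivial)⟩
    haveI : IsIso (redι (clE hWc)) := isIso_of_isClosedImmersion_of_surjective _
    have := CurveCoh17.genus_eq_of_iso (k := k) (redι (clE hWc)) rfl
    omega
  -- the common points
  let S : Closeds Y := clE hWc ⊓ Closeds.closure Wᶜ
  have hSr : Set.range (redι S) = CurvSt.meetPts Y W := by rw [range_redι, hmeet]; rfl
  have hSne : (CurvSt.meetPts Y W).Nonempty := by
    obtain ⟨z, hz⟩ := (Set.ne_univ_iff_exists_notMem _).1 huniv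
    obtain ⟨w, hw⟩ := hWc.1.nonempty
    obtain ⟨v, -, hv1, hv2⟩ := isPreconnected_closed_iff.1 isPreconnected_univ W (closure Wᶜ)
      (isClosed_of_mem_irreducibleComponents W hWc) isClosed_closure
      (fun v _ => (em (v ∈ W)).imp id fun h => subset_closure h) ⟨w, trivial, hw⟩ ⟨z, trivial, subset_closure hz⟩
    exact ⟨v, hmeet.symm ▸ ⟨hv1, hv2⟩⟩
  have hfin : (CurvSt.meetPts Y W).Finite := Set.finite_of_encard_le_coe (k := 2) hle
  haveI := hfin.to_subtype
  haveI : Finite (red S) := Finite.of_injective (fun z : red S => (⟨redι S z, hSr.subset ⟨z, rfl⟩⟩ : CurvSt.meetPts Y W))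
    (fun a b h => (redι S).isEmbedding.injective (congrArg Subtype.val h :))
  haveI : JacobsonSpace (red S) := by
    haveI : JacobsonSpace Y := LocallyOfFiniteType.jacobsonSpace (Y ↘ Spec (CommRingCat.of k))
    exact JacobsonSpace.of_isClosedEmbedding (redι S).isClosedEmbedding
  haveI : AlgebraicGeometry.IsReduced (red S) := RedSepLib.isReduced_vanishingIdeal_subscheme _
  have hcount : Nat.card (red S) = (CurvSt.meetPts Y W).ncard := by
    rw [← hSr, ← Nat.card_coe_set_eq]
    exact Nat.card_congr (Equiv.ofInjective _ (redι S).isEmbedding.injective)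
  have hsup : Scheme.IdealSheafData.vanishingIdeal (clE hWc) ⊔
      (Scheme.Opens.ι (⟨Wᶜ, (isClosed_of_mem_irreducibleComponents W hWc).isOpen_compl⟩ : Y.Opens)).ker =
      Scheme.IdealSheafData.vanishingIdeal S := by
    rw [ker_opens_ι]
    exact hY.vanishing_sup hWc
  have hne' : ((Scheme.Opens.ι (⟨Wᶜ, (isClosed_of_mem_irreducibleComponents W hWc).isOpen_compl⟩ : Y.Opens)).ker.support :
      Set Y).Nonempty := by
    obtain ⟨z, hz⟩ := (Set.ne_univ_iff_exists_notMem _).1 huniv
    refine ⟨z, ?_⟩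
    rw [Scheme.Hom.support_ker, Scheme.Opens.range_ι]
    exact subset_closure hz
  haveI : ConnectedSpace (red (clE hWc)) := inferInstance
  have hc2 : (CurvSt.meetPts Y W).ncard ≤ 2 := by
    have := hfin.cast_ncard_eq.trans_le hle
    exact_mod_cast this
  rcases Nat.lt_or_ge (CurvSt.meetPts Y W).ncard 2 with hlt | hge
  · -- a tail
    refine (hnt W hWc).1 ⟨hne', ?_⟩
    have h1 : (CurvSt.meetPts Y W).ncard = 1 := le_antisymm (Nat.lt_succ_iff.1 hlt) ((Set.ncard_pos hfin).2 hSne)
    obtain ⟨hsub, hnonem⟩ := (Nat.card_eq_one_iff_unique (α := red S)).1 (hcount.trans h1)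
    have hrS : ∀ (I : Y.IdealSheafData), I = Scheme.IdealSheafData.vanishingIdeal S →
        Nonempty I.subscheme ∧ Subsingleton I.subscheme ∧ AlgebraicGeometry.IsReduced I.subscheme := by
      rintro I rfl
      exact ⟨hnonem, hsub, inferInstance⟩
    obtain ⟨r1, r2, r3⟩ := hrS _ hsup
    refine ⟨r1, r2, r3, fun cpt => ?_, hH⟩
    obtain ⟨z, hz, hzc⟩ : ∃ z : red (clE hWc), IsClosed ({z} : Set (red (clE hWc))) ∧
        z = (Scheme.IdealSheafData.inclusion le_sup_left).base cpt := by
      haveI := r2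
      refine ⟨_, ?_, rfl⟩
      have hrange : Set.range (Scheme.IdealSheafData.inclusion (le_sup_left :
          Scheme.IdealSheafData.vanishingIdeal (clE hWc) ≤ _ ⊔
            (Scheme.Opens.ι (⟨Wᶜ, (isClosed_of_mem_irreducibleComponents W hWc).isOpen_compl⟩ : Y.Opens)).ker)).base =
          {(Scheme.IdealSheafData.inclusion le_sup_left).base cpt} :=
        Set.Subset.antisymm (by rintro _ ⟨d, rfl⟩; rw [Subsingleton.elim d cpt]; rfl) (by rintro _ rfl; exact ⟨cpt, rfl⟩)
      rw [← hrange]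
      exact (Scheme.IdealSheafData.inclusion le_sup_left).isClosedEmbedding.isClosed_range
    rw [← hzc]
    constructor
    · intro u v huv
      obtain ⟨a, ha⟩ := exists_const (red (clE hWc) ↘ Spec (CommRingCat.of k)) u
      obtain ⟨b, hb⟩ := exists_const (red (clE hWc) ↘ Spec (CommRingCat.of k)) v
      rw [ha, hb] at huv ⊢
      have := (Nodal27.bijective_residue_toStalk (red (clE hWc) ↘ Spec (CommRingCat.of k)) hz).1 (a₁ := a) (a₂ := b) huv
      rw [this]
    · intro r
      obtain ⟨a, ha⟩ := (Nodal27.bijective_residue_toStalk (red (clE hWc) ↘ Spec (CommRingCat.of k)) hz).2 r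
      exact ⟨Coh.toGlobal (red (clE hWc) ↘ Spec (CommRingCat.of k)) a, ha⟩
  · -- a bridge
    refine (hnt W hWc).2 ⟨hne', ?_, hH⟩
    show Module.finrank k (Coh.HH Y (ClSub.quotMod (_ ⊔ _)) 0) = 2 * _
    rw [hsup, hY.finrank_quot S, hY.finrank_quot (clE hWc)]
    have hW1 : Nat.card (_root_.ConnectedComponents (red (clE hWc))) = 1 := by
      haveI : Subsingleton (_root_.ConnectedComponents (red (clE hWc))) := ⟨fun a b => by
        obtain ⟨x, rfl⟩ := ConnectedComponents.surjective_coe a
        obtain ⟨y, rfl⟩ := ConnectedComponents.surjective_coe b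
        exact ConnectedComponents.coe_eq_coe'.2 (by rw [PreconnectedSpace.connectedComponent_eq_univ]; trivial)⟩
      exact Nat.card_eq_one_iff_unique.2 ⟨inferInstance, ⟨ConnectedComponents.mk (genericPoint _)⟩⟩
    have hS2 : Nat.card (_root_.ConnectedComponents (red S)) = Nat.card (red S) := by
      haveI : TotallyDisconnectedSpace (red S) := inferInstance
      refine (Nat.card_congr (Equiv.ofBijective (ConnectedComponents.mk : red S → _)
        ⟨fun a b h => ?_, ConnectedComponents.surjective_coe⟩)).symm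
      have := ConnectedComponents.coe_eq_coe'.1 h
      rwa [connectedComponent_eq_singleton, Set.mem_singleton_iff] at this
    rw [hW1, hS2, hcount]
    omega

end Groth.Agent.StabUniq18
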