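import Mathlib.RingTheory.IntegralClosure.IsIntegralClosure.Basic
import Mathlib.RingTheory.Localization.FractionRing
import Mathlib.RingTheory.Ideal.GoingUp
import Mathlib.RingTheory.Noetherian.Basic
import Mathlib.RingTheory.Ideal.Quotient.Operations
import Mathlib.RingTheory.LocalRing.MaximalIdeal.Basic
import Mathlib.RingTheory.Length

/-!
# Finite birational extensions of a local ring with small normalisation
-/

set_option autoImplicit false
set_option linter.style.haveILetI false

universe u

namespace Groth.Agent.StabUniq18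

open scoped nonZeroDivisors

/-- The normalisation is at most one simple module away, and is not local unless trivial. -/
structure MildSing (R : Type u) [CommRing R] : Prop where
  dich : ∀ S : Submodule R ↥(integralClosure R (FractionRing R)),
    LinearMap.range (Algebra.linearMap R ↥(integralClosure R (FractionRing R))) ≤ S →
      S = LinearMap.range (Algebra.linearMap R ↥(integralClosure R (FractionRing R))) ∨ S = ⊤
  loc : IsLocalRing ↥(integralClosure R (FractionRing R)) →
    Function.Surjective (algebraMap R ↥(integralClosure R (FractionRing R)))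

theorem MildSing.of_surjective {R : Type u} [CommRing R]
    (h : Function.Surjective (algebraMap R ↥(integralClosure R (FractionRing R)))) : MildSing R :=
  ⟨fun S hS => Or.inr (eq_top_iff.2 fun b _ => hS (h b)), fun _ => h⟩

theorem MildSing.of_length {R : Type u} [CommRing R]
    (hl : Module.length R (↥(integralClosure R (FractionRing R)) ⧸
      LinearMap.range (Algebra.linearMap R ↥(integralClosure R (FractionRing R)))) = 1)
    (hloc : ¬ IsLocalRing ↥(integralClosure R (FractionRing R))) : MildSing R := by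
  refine ⟨fun S hS => ?_, fun h => absurd h hloc⟩
  set p := LinearMap.range (Algebra.linearMap R ↥(integralClosure R (FractionRing R)))
  haveI := Module.length_eq_one_iff.1 hl
  rcases eq_bot_or_eq_top (S.map p.mkQ) with h | h
  · refine Or.inl (le_antisymm (fun b hb => ?_) hS)
    have : p.mkQ b ∈ S.map p.mkQ := ⟨b, hb, rfl⟩
    rw [h, Submodule.mem_bot] at this
    exact (Submodule.Quotient.mk_eq_zero p).1 this
  · refine Or.inr (eq_top_iff.2 fun b _ => ?_)
    obtain ⟨c, hc, hcb⟩ : p.mkQ b ∈ S.map p.mkQ := h.symm ▸ Submodule.mem_top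
    have : b - c ∈ p := (Submodule.Quotient.eq p).1 hcb.symm
    simpa using S.add_mem (hS this) hc

variable {R B : Type u} [CommRing R] [CommRing B] [Algebra R B] [Module.Finite R B]
  (hinj : Function.Injective (algebraMap R B)) {s : R} (hs : s ∈ R⁰)
  (hB : ∀ b : B, ∃ a : R, algebraMap R B a = s • b) (hreg : ∀ b : B, s • b = 0 → b = 0)

include hinj hs hB hreg in
theorem exists_embedding : ∃ ι : B →ₐ[R] ↥(integralClosure R (FractionRing R)), Function.Injective ι := by
  choose φ hφ using hB
  let u : FractionRing R := IsLocalization.mk' (FractionRing R) 1 (⟨s, hs⟩ : R⁰)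
  have hu : algebraMap R (FractionRing R) s * u = 1 :=
    (IsLocalization.mk'_spec' (FractionRing R) 1 (⟨s, hs⟩ : R⁰)).trans (map_one _)
  have e : ∀ b, algebraMap R (FractionRing R) (φ b) = algebraMap R (FractionRing R) s * (algebraMap R (FractionRing R) (φ b) * u) :=
    fun b => by linear_combination -(algebraMap R (FractionRing R) (φ b)) * hu
  let f : B →ₐ[R] FractionRing R :=
    { toFun := fun b => algebraMap R (FractionRing R) (φ b) * u
      map_one' := by
        have : φ 1 = s := hinj (by rw [hφ, Algebra.smul_def, mul_one])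
        rw [this, hu]
      map_mul' := fun a b => by
        have : s * φ (a * b) = φ a * φ b := hinj (by
          simp only [map_mul, hφ, Algebra.smul_def]; ring)
        have h' := congrArg (algebraMap R (FractionRing R)) this
        rw [map_mul, map_mul] at h'
        linear_combination (u * u) * h' - (algebraMap R (FractionRing R) (φ (a * b)) * u) * hu
      map_zero' := by
        have : φ 0 = 0 := hinj (by rw [hφ, smul_zero, map_zero])
        rw [this, map_zero, zero_mul]
      map_add' := fun a b => by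
        have : φ (a + b) = φ a + φ b := hinj (by rw [map_add, hφ, hφ, hφ, smul_add])
        rw [this, map_add, add_mul]
      commutes' := fun r => by
        have : φ (algebraMap R B r) = s * r := hinj (by rw [map_mul, hφ, Algebra.smul_def])
        show algebraMap R (FractionRing R) (φ (algebraMap R B r)) * u = algebraMap R (FractionRing R) r
        rw [this, map_mul]
        linear_combination (algebraMap R (FractionRing R) r) * hu }
  refine ⟨f.codRestrict _ fun b => IsIntegral.map f (IsIntegral.of_finite R b), fun a b hab => ?_⟩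
  have h : f a = f b := congrArg Subtype.val hab
  have h' : φ a = φ b := IsFractionRing.injective R (FractionRing R) (by
    rw [e a, e b]; exact congrArg (algebraMap R (FractionRing R) s * ·) h)
  refine sub_eq_zero.1 (hreg _ ?_)
  rw [smul_sub, ← hφ, ← hφ, h', sub_self]

variable (hm : MildSing R)
include hinj hs hB hreg hm

theorem dich_B (S : Submodule R B) (hS : LinearMap.range (Algebra.linearMap R B) ≤ S) :
    S = LinearMap.range (Algebra.linearMap R B) ∨ S = ⊤ := by
  obtain ⟨ι, hι⟩ := exists_embedding hinj hs hB hreg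
  have hr : (LinearMap.range (Algebra.linearMap R B)).map ι.toLinearMap =
      LinearMap.range (Algebra.linearMap R ↥(integralClosure R (FractionRing R))) := by
    rw [← LinearMap.range_comp]
    congr 1
    exact LinearMap.ext fun r => ι.commutes r
  rcases hm.dich (S.map ι.toLinearMap) (hr.symm.le.trans (Submodule.map_mono hS)) with h | h
  · exact Or.inl (Submodule.map_injective_of_injective hι (h.trans hr.symm))
  · refine Or.inr (eq_top_iff.2 fun b _ => ?_)
    obtain ⟨c, hc, hcb⟩ : ι b ∈ S.map ι.toLinearMap := h.symm ▸ Submodule.mem_top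
    exact hι hcb ▸ hc

theorem surjective_of_local (hloc : IsLocalRing B) : Function.Surjective (algebraMap R B) := by
  obtain ⟨ι, hι⟩ := exists_embedding hinj hs hB hreg
  have hr : LinearMap.range (Algebra.linearMap R ↥(integralClosure R (FractionRing R))) ≤
      LinearMap.range ι.toLinearMap := by
    rintro _ ⟨r, rfl⟩
    exact ⟨algebraMap R B r, ι.commutes r⟩
  rcases hm.dich _ hr with h | h
  · intro b
    obtain ⟨r, hr'⟩ : ι b ∈ LinearMap.range (Algebra.linearMap R ↥(integralClosure R (FractionRing R))) :=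
      h ▸ ⟨b, rfl⟩
    exact ⟨r, hι ((ι.commutes r).trans hr')⟩
  · have hbij : Function.Bijective ι := ⟨hι, LinearMap.range_eq_top.1 h⟩
    haveI : IsLocalRing ↥(integralClosure R (FractionRing R)) :=
      haveI : Nontrivial ↥(integralClosure R (FractionRing R)) := hbij.1.nontrivial
      IsLocalRing.of_surjective' ι.toRingHom hbij.2
    intro b
    obtain ⟨r, hr'⟩ := hm.loc inferInstance (ι b)
    exact ⟨r, hι ((ι.commutes r).trans hr')⟩

variable [IsLocalRing R]

omit hinj hs hB hreg hm in
theorem mem_maximal_iff (n : Ideal B) (hn : n.IsMaximal) (a : R) :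
    algebraMap R B a ∈ n ↔ a ∈ IsLocalRing.maximalIdeal R := by
  haveI : Algebra.IsIntegral R B := ⟨IsIntegral.of_finite R⟩
  haveI := hn
  rw [← IsLocalRing.eq_maximalIdeal (Ideal.isMaximal_comap_of_isIntegral_of_isMaximal (R := R) n)]
  rfl

/-- At most two maximal ideals. -/
theorem not_three (n₁ n₂ n₃ : Ideal B) (h₁ : n₁.IsMaximal) (h₂ : n₂.IsMaximal) (h₃ : n₃.IsMaximal)
    (h12 : n₁ ≠ n₂) (h13 : n₁ ≠ n₃) (h23 : n₂ ≠ n₃) : False := by
  set S : Submodule R B := LinearMap.range (Algebra.linearMap R B) ⊔ (n₁ ⊓ n₂).restrictScalars R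
  rcases dich_B hinj hs hB hreg hm S le_sup_left with h | h
  · -- an element of `n₁ ⊓ n₂` outside `n₃`
    obtain ⟨x, hx1, hx3⟩ := SetLike.not_le_iff_exists.1 fun hle : n₁ ≤ n₃ => h13 (h₁.eq_of_le h₃.ne_top hle)
    obtain ⟨y, hy2, hy3⟩ := SetLike.not_le_iff_exists.1 fun hle : n₂ ≤ n₃ => h23 (h₂.eq_of_le h₃.ne_top hle)
    have hxy : x * y ∈ S := Submodule.mem_sup_right ⟨n₁.mul_mem_right y hx1, n₂.mul_mem_left x hy2⟩
    rw [h] at hxy
    obtain ⟨a, ha⟩ := hxy
    have ha1 : a ∈ IsLocalRing.maximalIdeal R := (mem_maximal_iff n₁ h₁ a).1 (by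
      rw [show algebraMap R B a = x * y from ha]; exact n₁.mul_mem_right y hx1)
    have : x * y ∈ n₃ := ha ▸ (mem_maximal_iff n₃ h₃ a).2 ha1
    exact (h₃.isPrime.mem_or_mem this).elim hx3 hy3
  · obtain ⟨i, hi, j, hj, hij⟩ := Submodule.mem_sup.1
      ((Ideal.eq_top_iff_one _).1 (h₁.coprime_of_ne h₂ h12))
    have : j ∈ S := h ▸ Submodule.mem_top
    obtain ⟨_, ⟨a, rfl⟩, c, hc, hac⟩ := Submodule.mem_sup.1 this
    have hc1 : c ∈ n₁ := hc.1
    have hc2 : c ∈ n₂ := hc.2
    have ha2 : algebraMap R B a ∈ n₂ := by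
      rw [show algebraMap R B a = j - c from eq_sub_of_add_eq hac]; exact n₂.sub_mem hj hc2
    have ha1 := (mem_maximal_iff n₁ h₁ a).2 ((mem_maximal_iff n₂ h₂ a).1 ha2)
    exact h₁.ne_top ((Ideal.eq_top_iff_one _).2 (by
      rw [← hij, ← hac]
      exact n₁.add_mem hi (n₁.add_mem ha1 hc1)))

/-- Modulo an ideal with local quotient the base ring surjects. -/
theorem surjective_quotient (K : Ideal B) [IsLocalRing (B ⧸ K)] :
    Function.Surjective ((Ideal.Quotient.mk K).comp (algebraMap R B)) := by
  by_cases hall : ∀ n : Ideal B, n.IsMaximal → K ≤ n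
  · haveI : Nontrivial B := (Ideal.Quotient.mk K).domain_nontrivial
    haveI : IsLocalRing B := IsLocalRing.of_unique_max_ideal
      ⟨(IsLocalRing.maximalIdeal (B ⧸ K)).comap (Ideal.Quotient.mk K),
        Ideal.comap_isMaximal_of_surjective _ Ideal.Quotient.mk_surjective, fun n hn => by
        have hmap : (n.map (Ideal.Quotient.mk K)).IsMaximal := by
          refine (Ideal.map_eq_top_or_isMaximal_of_surjective _ Ideal.Quotient.mk_surjective hn).resolve_left fun h => ?_
          have := congrArg (Ideal.comap (Ideal.Quotient.mk K)) h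
          rw [Ideal.comap_map_of_surjective _ Ideal.Quotient.mk_surjective, Ideal.comap_top, ← RingHom.ker_eq_comap_bot,
            Ideal.mk_ker, sup_eq_left.2 (hall n hn)] at this
          exact hn.ne_top this
        rw [← IsLocalRing.eq_maximalIdeal hmap, Ideal.comap_map_of_surjective _ Ideal.Quotient.mk_surjective,
          ← RingHom.ker_eq_comap_bot, Ideal.mk_ker, sup_eq_left.2 (hall n hn)]⟩
    exact Ideal.Quotient.mk_surjective.comp (surjective_of_local hinj hs hB hreg hm inferInstance)
  · push Not at hall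
    obtain ⟨n, hn, hKn⟩ := hall
    obtain ⟨t, htK, htn⟩ := SetLike.not_le_iff_exists.1 hKn
    rcases dich_B hinj hs hB hreg hm
        (LinearMap.range (Algebra.linearMap R B) ⊔ K.restrictScalars R) le_sup_left with h | h
    · obtain ⟨a, ha⟩ : t ∈ LinearMap.range (Algebra.linearMap R B) := h ▸ Submodule.mem_sup_right htK
      exfalso
      obtain ⟨n₁, hn₁, hKn₁⟩ := Ideal.exists_le_maximal K (fun h => by
        exact not_subsingleton (B ⧸ K) (Ideal.Quotient.subsingleton_iff.2 h))
      exact htn (ha ▸ (mem_maximal_iff n hn a).2 ((mem_maximal_iff n₁ hn₁ a).1 (ha.symm ▸ hKn₁ htK)))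
    · intro x
      obtain ⟨b, rfl⟩ := Ideal.Quotient.mk_surjective x
      obtain ⟨_, ⟨a, rfl⟩, c, hc, hac⟩ := Submodule.mem_sup.1 (h.symm ▸ Submodule.mem_top : b ∈ _)
      exact ⟨a, Ideal.Quotient.eq.2 (by rw [← hac, Algebra.linearMap_apply]; simpa using K.neg_mem hc)⟩

/-- Elements of all maximal ideals come from the base. -/
theorem mem_range_of_mem_jacobson (u : B) (hu : ∀ n : Ideal B, n.IsMaximal → u ∈ n) :
    ∃ a, algebraMap R B a = u := by
  by_cases hsub : Subsingleton B
  · exact ⟨0, Subsingleton.elim _ _⟩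
  haveI : Nontrivial B := not_subsingleton_iff_nontrivial.1 hsub
  by_cases hloc : ∀ n n' : Ideal B, n.IsMaximal → n'.IsMaximal → n = n'
  · obtain ⟨n, hn⟩ := Ideal.exists_maximal B
    haveI : IsLocalRing B := IsLocalRing.of_unique_max_ideal ⟨n, hn, fun n' hn' => hloc n' n hn' hn⟩
    exact surjective_of_local hinj hs hB hreg hm inferInstance u
  push Not at hloc
  obtain ⟨n₁, n₂, h₁, h₂, h12⟩ := hloc
  rcases dich_B hinj hs hB hreg hm
    (LinearMap.range (Algebra.linearMap R B) ⊔ (⨅ n : {n : Ideal B // n.IsMaximal}, n.1).restrictScalars R)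
    le_sup_left with h | h
  · obtain ⟨a, ha⟩ : u ∈ LinearMap.range (Algebra.linearMap R B) :=
      h ▸ Submodule.mem_sup_right (Submodule.restrictScalars_mem R _ u |>.2 (Submodule.mem_iInf _ |>.2 fun n => hu n.1 n.2))
    exact ⟨a, ha⟩
  · exfalso
    obtain ⟨i, hi, j, hj, hij⟩ := Submodule.mem_sup.1 ((Ideal.eq_top_iff_one _).1 (h₁.coprime_of_ne h₂ h12))
    obtain ⟨_, ⟨a, rfl⟩, c, hc, hac⟩ := Submodule.mem_sup.1 (h.symm ▸ Submodule.mem_top : j ∈ _)
    have hc' := (Submodule.mem_iInf _).1 ((Submodule.restrictScalars_mem R _ c).1 hc)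
    have ha2 : algebraMap R B a ∈ n₂ := by
      rw [show algebraMap R B a = j - c from eq_sub_of_add_eq hac]
      exact n₂.sub_mem hj (hc' ⟨n₂, h₂⟩)
    have ha1 := (mem_maximal_iff n₁ h₁ a).2 ((mem_maximal_iff n₂ h₂ a).1 ha2)
    exact h₁.ne_top ((Ideal.eq_top_iff_one _).2 (by
      rw [← hij, ← hac]
      exact n₁.add_mem hi (n₁.add_mem ha1 (hc' ⟨n₁, h₁⟩))))

end Groth.Agent.StabUniq18
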