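import Groth.Agent.Lib.StabUniq18.Contr
import Groth.Agent.Lib.CurveCoh17.GenericZero

/-!
# The components over a point of a contracted curve
-/

set_option autoImplicit false
set_option linter.style.haveILetI false
set_option maxHeartbeats 1000000
set_option backward.isDefEq.respectTransparency false
set_option backward.isDefEq.respectTransparency.types false

universe u

open CategoryTheory CategoryTheory.Limits AlgebraicGeometry TopologicalSpace Opposite Set
open scoped nonZeroDivisors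

noncomputable section

namespace Groth.Agent.StabUniq18

variable {k : Type u} [Field k] [IsAlgClosed k] {X Y : Scheme.{u}}
  [X.Over (Spec (CommRingCat.of k))] [Y.Over (Spec (CommRingCat.of k))]
  {c : X ⟶ Y}

theorem mem_basicOpen_iff_notMem {V : Y.Opens} (hV : IsAffineOpen V) (a : Γ(Y, V)) {y : Y} (hy : y ∈ V) :
    y ∈ Y.basicOpen a ↔ a ∉ (hV.primeIdealOf ⟨y, hy⟩).asIdeal := by
  have := hV.fromSpec_preimage_basicOpen a
  have e : hV.fromSpec (hV.primeIdealOf ⟨y, hy⟩) = y := hV.fromSpec_primeIdealOf ⟨y, hy⟩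
  conv_lhs => rw [← e]
  show hV.primeIdealOf ⟨y, hy⟩ ∈ hV.fromSpec ⁻¹ᵁ Y.basicOpen a ↔ _
  rw [this]
  exact Iff.rfl

theorem primeIdealOf_injective {V : Y.Opens} (hV : IsAffineOpen V) {y z : Y} (hy : y ∈ V) (hz : z ∈ V)
    (h : hV.primeIdealOf ⟨y, hy⟩ = hV.primeIdealOf ⟨z, hz⟩) : y = z := by
  have e : hV.fromSpec (hV.primeIdealOf ⟨y, hy⟩) = y := hV.fromSpec_primeIdealOf ⟨y, hy⟩
  rw [← e, h]
  exact hV.fromSpec_primeIdealOf ⟨z, hz⟩

theorem eq_primeIdealOf {V : Y.Opens} (hV : IsAffineOpen V) (p : PrimeSpectrum Γ(Y, V)) :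
    ∃ hp : hV.fromSpec p ∈ V, hV.primeIdealOf ⟨hV.fromSpec p, hp⟩ = p := by
  have hp : hV.fromSpec p ∈ V := hV.range_fromSpec.le ⟨p, rfl⟩
  exact ⟨hp, hV.fromSpec.isOpenEmbedding.injective (hV.fromSpec_primeIdealOf ⟨_, hp⟩)⟩

/-- A point without proper generisations gives a minimal prime. -/
theorem primeIdealOf_mem_minimalPrimes {V : Y.Opens} (hV : IsAffineOpen V) {η : Y} (hη : η ∈ V)
    (hmax : ∀ z, z ⤳ η → z = η) : (hV.primeIdealOf ⟨η, hη⟩).asIdeal ∈ minimalPrimes Γ(Y, V) := by
  refine ⟨⟨(hV.primeIdealOf ⟨η, hη⟩).isPrime, bot_le⟩, fun q hq hle => ?_⟩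
  obtain ⟨hz, hq'⟩ := eq_primeIdealOf hV ⟨q, hq.1⟩
  have hsp : hV.fromSpec ⟨q, hq.1⟩ ⤳ η := by
    have e : hV.fromSpec (hV.primeIdealOf ⟨η, hη⟩) = η := hV.fromSpec_primeIdealOf ⟨η, hη⟩
    rw [← e]
    exact ((PrimeSpectrum.le_iff_specializes _ _).1 hle).map hV.fromSpec.continuous
  have := congrArg PrimeSpectrum.asIdeal hq'
  refine le_trans ?_ this.le
  exact le_of_eq (congrArg (fun w : V => (hV.primeIdealOf w).asIdeal) (Subtype.ext (hmax _ hsp)).symm)

theorem maxPt_of_generic {W : Set Y} (hW : W ∈ irreducibleComponents (Y : Type u)) {η : Y}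
    (hη : closure {η} = W) (z : Y) (hz : z ⤳ η) : z = η := by
  have hle : W ⊆ closure {z} := hη ▸ specializes_iff_closure_subset.1 hz
  have heq : W = closure {z} := hW.eq_of_subset isIrreducible_singleton.closure hle
  exact (hz.antisymm (specializes_iff_mem_closure.2 (hη.trans heq ▸ subset_closure rfl : z ∈ closure ({η} : Set Y)))).eq

/-- The components that are not killed. -/
def Alive (c : X ⟶ Y) : Type u := {E : Set X // E ∈ irreducibleComponents (X : Type u) ∧ ¬ Kills c E}

/-- A component mapped to the target. -/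
abbrev hE (i : Alive c) : red (clE i.2.1) ⟶ Y := redι (clE i.2.1) ≫ c

/-- The functions on the components over an open. -/
abbrev BB (c : X ⟶ Y) (V : Y.Opens) : Type u := ∀ i : Alive c, Γ(red (clE i.2.1), hE i ⁻¹ᵁ V)

instance algBB (V : Y.Opens) : Algebra Γ(Y, V) (BB c V) :=
  RingHom.toAlgebra (RingHom.pi fun i => ((hE i).app V).hom)

theorem algBB_apply (V : Y.Opens) (a : Γ(Y, V)) (i : Alive c) :
    algebraMap Γ(Y, V) (BB c V) a i = (hE i).app V a := rfl

theorem mem_range_redι {E : Set X} (hE' : E ∈ irreducibleComponents (X : Type u)) {x : X} :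
    x ∈ Set.range (redι (clE hE')) ↔ x ∈ E := by rw [range_redι]; rfl

variable (hc : IsContr k c)
include hc

theorem IsContr.finite_alive : Finite (Alive c) := by
  haveI := hc.source.isNoetherian
  haveI := (NoetherianSpace.finite_irreducibleComponents (α := X)).to_subtype
  exact Finite.of_injective (fun i : Alive c => (⟨i.1, i.2.1⟩ : irreducibleComponents (X : Type u)))
    fun a b h => Subtype.ext (congrArg Subtype.val h :)

theorem IsContr.isFinite_hE (i : Alive c) : IsFinite (hE i) := by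
  haveI := hc.isProper
  haveI := hc.target.isNoetherian
  haveI := hc.source.isNoetherian
  haveI := isIntegral_red i.2.1
  haveI : LocallyQuasiFinite (hE i) := by
    rw [locallyQuasiFinite_iff_finite_preimage_singleton]
    intro y
    have hsub : hE i ⁻¹' {y} ⊆ redι (clE i.2.1) ⁻¹' (c ⁻¹' {y} ∩ i.1) := fun z hz =>
      ⟨hz, (mem_range_redι i.2.1).1 ⟨z, rfl⟩⟩
    by_cases hy : IsClosed ({y} : Set Y)
    · exact ((hc.finite_inter_fibre i.2.1 i.2.2 hy).preimage
        (redι (clE i.2.1)).isEmbedding.injective.injOn).subset hsub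
    · refine (Set.finite_singleton (genericPoint (red (clE i.2.1)))).subset fun z hz => ?_
      by_contra hne
      refine hy ?_
      have hzc : IsClosed ({z} : Set (red (clE i.2.1))) :=
        PicLift19.isClosed_singleton_of_dim_le_one
          (le_trans (Topology.IsInducing.topologicalKrullDim_le (redι (clE i.2.1)).isEmbedding.isInducing) hc.source.dim_le)
          ((genericPoint_spec _).specializes trivial) (Ne.symm hne)
      have := (hE i).isClosedMap _ hzc
      rwa [Set.image_singleton, show hE i z = y from hz] at this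
  exact IsFinite.of_isProper_of_locallyQuasiFinite _

theorem IsContr.finite_BB {V : Y.Opens} (hV : IsAffineOpen V) : Module.Finite Γ(Y, V) (BB c V) := by
  haveI := hc.finite_alive
  letI : ∀ i : Alive c, Algebra Γ(Y, V) Γ(red (clE i.2.1), hE i ⁻¹ᵁ V) := fun i => ((hE i).app V).hom.toAlgebra
  haveI : ∀ i : Alive c, Module.Finite Γ(Y, V) Γ(red (clE i.2.1), hE i ⁻¹ᵁ V) := fun i => by
    haveI := hc.isFinite_hE i
    exact (hE i).finite_app V hV
  let e : (∀ i : Alive c, Γ(red (clE i.2.1), hE i ⁻¹ᵁ V)) →ₗ[Γ(Y, V)] BB c V :=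
    { toFun := fun b => b
      map_add' := fun _ _ => rfl
      map_smul' := fun a b => funext fun i => rfl }
  exact Module.Finite.of_surjective e fun b => ⟨b, rfl⟩

theorem IsContr.exists_alive_over (y : Y) : ∃ (i : Alive c) (z : red (clE i.2.1)), hE i z = y := by
  obtain ⟨W, hW, hyW⟩ := exists_comp y
  obtain ⟨E, hE', hk, rfl⟩ := hc.exists_comp_over hW
  obtain ⟨x, hx, rfl⟩ := hyW
  obtain ⟨z, hz⟩ := (mem_range_redι hE').2 hx
  exact ⟨⟨E, hE', hk⟩, z, congrArg c hz⟩

theorem IsContr.injective_BB (V : Y.Opens) : Function.Injective (algebraMap Γ(Y, V) (BB c V)) := by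
  haveI := hc.target.proper
  haveI := hc.target.isReduced
  rw [injective_iff_map_eq_zero]
  intro a ha
  rw [← basicOpen_eq_bot_iff]
  refine eq_bot_iff.2 fun y hy => ?_
  obtain ⟨i, z, rfl⟩ := hc.exists_alive_over y
  have h1 : z ∈ hE i ⁻¹ᵁ Y.basicOpen a := hy
  rw [Scheme.preimage_basicOpen, show (hE i).app V a = 0 from congrFun ha i, Scheme.basicOpen_zero] at h1
  exact h1.elim

/-- A regular function vanishing at finitely many closed points. -/
theorem IsContr.exists_regular {V : Y.Opens} (hV : IsAffineOpen V) {T : Set Y} (hT : T.Finite)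
    (hTc : ∀ y ∈ T, IsClosed ({y} : Set Y)) :
    ∃ s ∈ Γ(Y, V)⁰, ∀ y ∈ T, y ∉ Y.basicOpen s := by
  haveI := hc.target.isNoetherian
  haveI := hc.target.proper
  haveI := hc.target.isReduced
  haveI : IsNoetherianRing Γ(Y, V) := IsLocallyNoetherian.component_noetherian ⟨V, hV⟩
  classical
  let S : Finset V := ((hT.inter_of_left (V : Set Y)).preimage (f := (Subtype.val : V → Y))
    Subtype.val_injective.injOn).toFinset
  have hmemS : ∀ w : V, w ∈ S ↔ w.1 ∈ T := fun w => by simp [S, w.2]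
  obtain ⟨s, hsI, hs⟩ := GenericZero.exists_mem_nonZeroDivisors
    (∏ w ∈ S, (hV.primeIdealOf w).asIdeal) fun P hP hle => by
    obtain ⟨w, hw, hwP⟩ := (Ideal.IsPrime.prod_le hP.1.1).1 hle
    have hwc : IsClosed ({w.1} : Set Y) := hTc _ ((hmemS w).1 hw)
    have hmax := hV.primeIdealOf_isMaximal_of_isClosed w hwc
    have hPw : (hV.primeIdealOf w).asIdeal = P := hmax.eq_of_le hP.1.1.ne_top hwP
    obtain ⟨W, hW, hwW⟩ := exists_comp w.1
    obtain ⟨η, hη⟩ := QuasiSober.sober hW.1 (isClosed_of_mem_irreducibleComponents W hW)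
    have hηw : η ⤳ w.1 := hη.specializes hwW
    have hηV : η ∈ V := hηw.mem_open V.2 w.2
    have hle' : (hV.primeIdealOf ⟨η, hηV⟩).asIdeal ≤ P := by
      rw [← hPw]
      refine (PrimeSpectrum.le_iff_specializes _ _).2 ?_
      exact ((subtype_specializes_iff (⟨η, hηV⟩ : V) w).2 hηw).map hV.isoSpec.hom.continuous
    have he : (hV.primeIdealOf ⟨η, hηV⟩).asIdeal = P :=
      le_antisymm hle' (hP.2 ⟨(hV.primeIdealOf ⟨η, hηV⟩).isPrime, bot_le⟩ hle')
    have : η = w.1 := primeIdealOf_injective hV hηV w.2 (PrimeSpectrum.ext (he.trans hPw.symm))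
    refine hc.target.comp_not_finite hW ?_
    rw [← hη.def, this, hwc.closure_eq]
    exact Set.finite_singleton _
  refine ⟨s, hs, fun y hy h => ?_⟩
  have hyV : y ∈ V := Y.basicOpen_le s h
  refine (mem_basicOpen_iff_notMem hV s hyV).1 h ?_
  exact (Ideal.prod_le_inf.trans (Finset.inf_le ((hmemS ⟨y, hyV⟩).2 hy))) hsI

/-- The bad points of the target. -/
def badPts (c : X ⟶ Y) : Set Y :=
  (⋃ E ∈ {E ∈ irreducibleComponents (X : Type u) | Kills c E}, c '' E) ∪
    ⋃ i : Alive c, ⋃ j : Alive c, ⋃ (_ : i ≠ j), c '' (i.1 ∩ j.1)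

theorem IsContr.badPts_props : (badPts c).Finite ∧ ∀ y ∈ badPts c, IsClosed ({y} : Set Y) := by
  haveI := hc.source.isNoetherian
  haveI := hc.finite_alive
  haveI := hc.source.proper
  haveI := hc.target.proper
  haveI := hc.isProper
  haveI : JacobsonSpace X := LocallyOfFiniteType.jacobsonSpace (X ↘ Spec (CommRingCat.of k))
  have hfin : ∀ i j : Alive c, i ≠ j → (i.1 ∩ j.1).Finite := fun i j hij =>
    finite_inter_comp hc.source.dim_le (isClosed_of_mem_irreducibleComponents _ i.2.1) j.2.1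
      fun h => hij (Subtype.ext (eq_of_comp_subset j.2.1 i.2.1 h).symm)
  refine ⟨(Set.Finite.biUnion ((NoetherianSpace.finite_irreducibleComponents).subset (sep_subset _ _))
    fun E hE' => hE'.2.finite).union (Set.finite_iUnion fun i => Set.finite_iUnion fun j => Set.finite_iUnion
      fun hij => (hfin i j hij).image _), ?_⟩
  rintro y (hy | hy)
  · simp only [Set.mem_iUnion] at hy
    obtain ⟨E, hE', hyE⟩ := hy
    obtain ⟨y', hy', he⟩ := hc.isClosed_image_of_kills hE'.1 hE'.2
    rw [he] at hyE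
    exact hyE ▸ hy'
  · simp only [Set.mem_iUnion] at hy
    obtain ⟨i, j, hij, x, hx, rfl⟩ := hy
    have hxc : IsClosed ({x} : Set X) := RigidRelFin_closed (hfin i j hij)
      ((isClosed_of_mem_irreducibleComponents _ i.2.1).inter (isClosed_of_mem_irreducibleComponents _ j.2.1)) hx
    have := c.isClosedMap _ hxc
    rwa [Set.image_singleton] at this
where
  RigidRelFin_closed {F : Set X} [JacobsonSpace X] (hF : F.Finite) (hFc : IsClosed F) {x : X} (hx : x ∈ F) :
      IsClosed ({x} : Set X) := by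
    haveI := hF.to_subtype
    haveI : JacobsonSpace F := JacobsonSpace.of_isClosedEmbedding hFc.isClosedEmbedding_subtypeVal
    simpa using hFc.isClosedEmbedding_subtypeVal.isClosedMap {⟨x, hx⟩} (isClosed_discrete _)

/-- Functions on the components are birational to those of the target. -/
theorem IsContr.birat {V : Y.Opens} (hV : IsAffineOpen V) : Birat Γ(Y, V) (BB c V) := by
  haveI := hc.finite_BB hV
  haveI := hc.target.proper
  haveI := hc.target.isReduced
  haveI := hc.source.proper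
  haveI := hc.source.isReduced
  haveI := hc.target.isNoetherian
  haveI := hc.source.isNoetherian
  haveI := hc.finite_alive
  obtain ⟨hbf, hbc⟩ := hc.badPts_props
  obtain ⟨s, hs, hsT⟩ := hc.exists_regular hV hbf hbc
  let D := Y.basicOpen s
  have hgen : ∀ i : Alive c, (hE i ⁻¹ᵁ V : Set (red (clE i.2.1))).Nonempty →
      (hE i ⁻¹ᵁ D : Set (red (clE i.2.1))).Nonempty := by
    intro i ⟨z, hz⟩
    haveI := isIntegral_red i.2.1
    set γ := genericPoint (red (clE i.2.1))
    have hW := hc.image_mem_components i.2.1 i.2.2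
    have hγW : closure {hE i γ} = c '' i.1 := by
      haveI := hc.isProper
      refine Set.Subset.antisymm (closure_minimal (Set.singleton_subset_iff.2 ?_)
        (isClosed_of_mem_irreducibleComponents _ hW)) ?_
      · exact ⟨_, (mem_range_redι i.2.1).1 ⟨γ, rfl⟩, rfl⟩
      · rintro _ ⟨x, hx, rfl⟩
        obtain ⟨w, rfl⟩ := (mem_range_redι i.2.1).2 hx
        exact ((genericPoint_spec (red (clE i.2.1))).specializes trivial |>.map (hE i).continuous).mem_closure
    have hγV : hE i γ ∈ V :=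
      (((genericPoint_spec (red (clE i.2.1))).specializes (trivial : z ∈ _)).map (hE i).continuous).mem_open V.2 hz
    refine ⟨γ, (mem_basicOpen_iff_notMem hV s hγV).2 fun hmem => ?_⟩
    exact Set.disjoint_left.1 (Ideal.disjoint_nonZeroDivisors_of_mem_minimalPrimes
      (primeIdealOf_mem_minimalPrimes hV hγV (maxPt_of_generic hW hγW))) hmem hs
  have hinj : ∀ (i : Alive c) (b : Γ(red (clE i.2.1), hE i ⁻¹ᵁ V)),
      (red (clE i.2.1)).presheaf.map (homOfLE ((hE i).preimage_mono (Y.basicOpen_le s))).op b = 0 → b = 0 := by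
    intro i b hb
    haveI := isIntegral_red i.2.1
    rcases Set.eq_empty_or_nonempty (hE i ⁻¹ᵁ V : Set (red (clE i.2.1))) with h | h
    · haveI : Subsingleton Γ(red (clE i.2.1), hE i ⁻¹ᵁ V) := by
        rw [show hE i ⁻¹ᵁ V = ⊥ from Opens.ext h]; infer_instance
      exact Subsingleton.elim _ _
    · haveI : Nonempty (hE i ⁻¹ᵁ D : (red (clE i.2.1)).Opens) := (hgen i h).to_subtype
      exact map_injective_of_isIntegral _ (homOfLE ((hE i).preimage_mono (Y.basicOpen_le s))) (hb.trans (map_zero _).symm)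
  have hres : ∀ (i : Alive c) (a : Γ(Y, V)),
      (red (clE i.2.1)).presheaf.map (homOfLE ((hE i).preimage_mono (Y.basicOpen_le s))).op ((hE i).app V a) =
        (hE i).app D (Y.presheaf.map (homOfLE (Y.basicOpen_le s)).op a) := fun i a => by
    exact ((congrArg (fun φ => φ.hom a) ((hE i).naturality (homOfLE (Y.basicOpen_le s)).op))).symm
  -- every tuple becomes a function after multiplying by a power of `s`
  have hone : ∀ b : BB c V, ∃ (n : ℕ) (a : Γ(Y, V)), algebraMap _ (BB c V) a = s ^ n • b := by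
    intro b
    let others : Alive c → Set (Set X) := fun i => {F ∈ irreducibleComponents (X : Type u) | F ≠ i.1}
    let O : Alive c → X.Opens := fun i =>
      c ⁻¹ᵁ D ⊓ ⟨(⋃₀ others i)ᶜ, (isSubcurve_biUnion (sep_subset _ _)).closed.isOpen_compl⟩
    have hsingle : ∀ x : X, c x ∈ D → ∀ (i : Alive c), x ∈ i.1 → x ∈ O i := by
      intro x hx i hxi
      refine ⟨hx, ?_⟩
      rintro ⟨F, ⟨hF, hne⟩, hxF⟩
      refine hsT (c x) ?_ hx
      by_cases hk : Kills c F
      · exact Or.inl (Set.mem_biUnion ⟨hF, hk⟩ ⟨x, hxF, rfl⟩)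
      · exact Or.inr (Set.mem_iUnion.2 ⟨i, Set.mem_iUnion.2 ⟨⟨F, hF, hk⟩, Set.mem_iUnion.2
          ⟨fun e => hne (congrArg Subtype.val e).symm, x, ⟨hxi, hxF⟩, rfl⟩⟩⟩)
    have hcov : c ⁻¹ᵁ D ≤ ⨆ i, O i := by
      intro x hx
      obtain ⟨F, hF, hxF⟩ := exists_comp x
      have hk : ¬ Kills c F := fun hk => hsT (c x) (Or.inl (Set.mem_biUnion ⟨hF, hk⟩ ⟨x, hxF, rfl⟩)) hx
      exact Opens.mem_iSup.2 ⟨⟨F, hF, hk⟩, hsingle x hx ⟨F, hF, hk⟩ hxF⟩
    have honly : ∀ i x, x ∈ O i → x ∈ i.1 := fun i x hx => by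
      obtain ⟨F, hF, hxF⟩ := exists_comp x
      by_contra hne
      exact hx.2 ⟨F, ⟨hF, fun e => hne (e ▸ hxF)⟩, hxF⟩
    have hiso : ∀ i, IsIso ((redι (clE i.2.1)).app (O i)) := by
      intro i
      let φ := redι (clE i.2.1) ∣_ O i
      haveI : IsClosedImmersion φ := MorphismProperty.of_isPullback (isPullback_morphismRestrict _ _).flip inferInstance
      haveI : Surjective φ := ⟨fun x => by
        obtain ⟨z, hz⟩ := (mem_range_redι i.2.1).2 (honly i x.1 x.2)
        exact ⟨⟨z, show redι (clE i.2.1) z ∈ O i by rw [hz]; exact x.2⟩,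
          Subtype.ext ((morphismRestrict_base_coe _ _ _).trans hz)⟩⟩
      haveI : IsIso φ := isIso_of_isClosedImmersion_of_surjective φ
      have h1 : IsIso (φ.app ⊤) := inferInstance
      rw [morphismRestrict_app] at h1
      have h2 := @IsIso.of_isIso_comp_right _ _ _ _ _ _ _ inferInstance h1
      exact (Scheme.Opens.ι_image_top (O i)) ▸ h2
    have hle : ∀ i, redι (clE i.2.1) ⁻¹ᵁ O i ≤ hE i ⁻¹ᵁ V := fun i z hz => Y.basicOpen_le s hz.1
    let g : ∀ i, Γ(X, O i) := fun i => (haveI := hiso i; inv ((redι (clE i.2.1)).app (O i)))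
      ((red (clE i.2.1)).presheaf.map (homOfLE (hle i)).op (b i))
    have hg : ∀ i, (redι (clE i.2.1)).app (O i) (g i) = (red (clE i.2.1)).presheaf.map (homOfLE (hle i)).op (b i) :=
      fun i => by
        haveI := hiso i
        exact congrArg (fun φ => (CommRingCat.Hom.hom φ) ((red (clE i.2.1)).presheaf.map (homOfLE (hle i)).op (b i)))
          (IsIso.inv_hom_id ((redι (clE i.2.1)).app (O i)))
    obtain ⟨f, hf, -⟩ := TopCat.Sheaf.existsUnique_gluing' X.sheaf O (c ⁻¹ᵁ D) (fun i => homOfLE inf_le_left) hcov g (by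
      intro i j
      by_cases hij : i = j
      · subst hij; rfl
      · haveI : Subsingleton Γ(X, O i ⊓ O j) := by
          rw [show O i ⊓ O j = ⊥ from eq_bot_iff.2 fun x hx => (hx.2.2
            ⟨i.1, ⟨i.2.1, fun e => hij (Subtype.ext e)⟩, honly i x hx.1⟩).elim]
          infer_instance
        exact @Subsingleton.elim Γ(X, O i ⊓ O j) this _ _)
    haveI := hc.app D
    let a' : Γ(Y, D) := (inv (c.app D)) f
    have ha' : c.app D a' = f := congrArg (fun φ => (CommRingCat.Hom.hom φ) f) (IsIso.inv_hom_id (c.app D))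
    haveI := hV.isLocalization_basicOpen s
    obtain ⟨⟨a, ⟨_, n, rfl⟩⟩, ha⟩ := IsLocalization.surj (Submonoid.powers s) a'
    refine ⟨n, a, funext fun i => ?_⟩
    rw [Algebra.smul_def]
    show (hE i).app V a = (hE i).app V (s ^ n) * b i
    refine sub_eq_zero.1 (hinj i _ ?_)
    rw [map_sub, map_mul, hres, hres, sub_eq_zero]
    have ha2 : a' * Y.presheaf.map (homOfLE (Y.basicOpen_le s)).op (s ^ n) =
        Y.presheaf.map (homOfLE (Y.basicOpen_le s)).op a := ha
    rw [← ha2, map_mul, mul_comm]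
    congr 1
    show (redι (clE i.2.1)).app (c ⁻¹ᵁ D) (c.app D a') = _
    rw [ha']
    have hOeq : redι (clE i.2.1) ⁻¹ᵁ (c ⁻¹ᵁ D) ≤ redι (clE i.2.1) ⁻¹ᵁ O i :=
      fun z hz => hsingle _ hz i ((mem_range_redι i.2.1).1 ⟨z, rfl⟩)
    have h3 := congrArg ((red (clE i.2.1)).presheaf.map (homOfLE hOeq).op).hom
      ((congrArg ((redι (clE i.2.1)).app (O i)).hom (hf i)).trans (hg i))
    have h4 := congrArg (fun φ => φ.hom f) ((redι (clE i.2.1)).naturality (homOfLE (inf_le_left : O i ≤ c ⁻¹ᵁ D)).op)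
    simp only [CommRingCat.hom_comp, RingHom.comp_apply] at h4
    have h5 := ((congrArg ((red (clE i.2.1)).presheaf.map (homOfLE hOeq).op).hom h4).symm).trans h3
    rw [← CommRingCat.comp_apply, ← Functor.map_comp] at h5
    refine Eq.trans ?_ (h5.trans ?_)
    · rw [show (((Opens.map (redι (clE i.2.1)).base).map (homOfLE (inf_le_left : O i ≤ c ⁻¹ᵁ D)).op.unop).op ≫
          (homOfLE hOeq).op) = 𝟙 _ from Subsingleton.elim _ _, CategoryTheory.Functor.map_id]
      rfl
    · refine (congrArg (fun ψ => (CommRingCat.Hom.hom ψ) (b i)) ((red (clE i.2.1)).presheaf.map_comp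
        (homOfLE (hle i)).op (homOfLE hOeq).op)).symm.trans ?_
      exact congrArg (fun φ => ((red (clE i.2.1)).presheaf.map φ).hom (b i)) (Subsingleton.elim _ _)
  obtain ⟨G, hG⟩ := (Module.Finite.fg_top : (⊤ : Submodule Γ(Y, V) (BB c V)).FG)
  choose n a ha using hone
  let N := G.sup n
  let S : Submodule Γ(Y, V) (BB c V) :=
    { carrier := {b | ∃ a, algebraMap _ (BB c V) a = s ^ N • b}
      add_mem' := fun ⟨a₁, h₁⟩ ⟨a₂, h₂⟩ => ⟨a₁ + a₂, by rw [map_add, h₁, h₂, smul_add]⟩
      zero_mem' := ⟨0, by rw [map_zero, smul_zero]⟩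
      smul_mem' := fun r b ⟨a₁, h₁⟩ => ⟨r * a₁, by rw [map_mul, h₁, ← Algebra.smul_def, smul_comm]⟩ }
  have hS : S = ⊤ := by
    refine eq_top_iff.2 (hG ▸ Submodule.span_le.2 fun b hb => ?_)
    have hle : n b ≤ N := Finset.le_sup hb
    refine ⟨s ^ (N - n b) * a b, ?_⟩
    rw [map_mul, ha, ← Algebra.smul_def, smul_smul, ← pow_add, Nat.sub_add_cancel hle]
  refine ⟨hc.injective_BB V, s ^ N, pow_mem hs N, fun b => (hS.symm ▸ Submodule.mem_top : b ∈ S), fun b hb => ?_⟩
  funext i
  show b i = 0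
  refine hinj i _ ?_
  have h5 : (hE i).app V (s ^ N) * b i = 0 := congrFun hb i
  have h6 := congrArg ((red (clE i.2.1)).presheaf.map (homOfLE ((hE i).preimage_mono (Y.basicOpen_le s))).op).hom h5
  rw [map_mul, map_zero, hres] at h6
  refine (IsUnit.mul_right_eq_zero ?_).1 h6
  rw [map_pow]
  exact ((Y.toRingedSpace.isUnit_res_basicOpen s).pow N).map _

end Groth.Agent.StabUniq18
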