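import Groth.Agent.Lib.StabUniq18.Local

/-!
# Counting the points over a point of a contracted curve
-/

set_option autoImplicit false
set_option linter.style.haveILetI false
set_option maxHeartbeats 1000000
set_option backward.isDefEq.respectTransparency false
set_option backward.isDefEq.respectTransparency.types false

universe u

open CategoryTheory CategoryTheory.Limits AlgebraicGeometry TopologicalSpace Opposite Set
open scoped nonZeroDivisors

noncomputable section

namespace Groth.Agent.StabUniq18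

variable {k : Type u} [Field k] [IsAlgClosed k] {X Y : Scheme.{u}}
  [X.Over (Spec (CommRingCat.of k))] [Y.Over (Spec (CommRingCat.of k))]
  {c : X ⟶ Y}

variable (hc : IsContr k c)

/-- A component that is not killed together with one of its points. -/
def Br (c : X ⟶ Y) : Type u := {p : Alive c × X // p.2 ∈ p.1.1}

theorem surjective_eval {V : Y.Opens} (i : Alive c) :
    Function.Surjective (Pi.evalRingHom (fun i : Alive c => Γ(red (clE i.2.1), hE i ⁻¹ᵁ V)) i) := by
  classical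
  intro r
  refine ⟨Function.update 0 i r, ?_⟩
  simp

/-- The prime of functions at a point of a component. -/
def primeAt {V : Y.Opens} (i : Alive c) (hVi : IsAffineOpen (hE i ⁻¹ᵁ V)) (w : ↥(hE i ⁻¹ᵁ V)) : Ideal (BB c V) :=
  (hVi.primeIdealOf w).asIdeal.comap (Pi.evalRingHom (fun i : Alive c => Γ(red (clE i.2.1), hE i ⁻¹ᵁ V)) i)

theorem comap_primeAt {V : Y.Opens} (hV : IsAffineOpen V) (i : Alive c) (hVi : IsAffineOpen (hE i ⁻¹ᵁ V))
    (w : ↥(hE i ⁻¹ᵁ V)) :
    (primeAt i hVi w).comap (algebraMap Γ(Y, V) (BB c V)) = (hV.primeIdealOf ⟨hE i w.1, w.2⟩).asIdeal := by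
  have h := congrArg PrimeSpectrum.asIdeal
    (IsAffineOpen.comap_primeIdealOf_appLE (f := hE i) V hV (hE i ⁻¹ᵁ V) hVi le_rfl w.2)
  rw [show (hE i).appLE V (hE i ⁻¹ᵁ V) le_rfl = (hE i).app V from (hE i).app_eq_appLE.symm] at h
  exact h

theorem primeAt_inj_same {V : Y.Opens} (i : Alive c) (hVi : IsAffineOpen (hE i ⁻¹ᵁ V)) (w w' : ↥(hE i ⁻¹ᵁ V))
    (h : primeAt i hVi w = primeAt i hVi w') : w.1 = w'.1 := by
  have hs := surjective_eval (c := c) (V := V) i
  exact primeIdealOf_injective hVi w.2 w'.2 (PrimeSpectrum.ext (Ideal.comap_injective_of_surjective _ hs h))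

theorem primeAt_ne {V : Y.Opens} (i j : Alive c) (hij : i ≠ j) (hVi : IsAffineOpen (hE i ⁻¹ᵁ V))
    (hVj : IsAffineOpen (hE j ⁻¹ᵁ V)) (w : ↥(hE i ⁻¹ᵁ V)) (w' : ↥(hE j ⁻¹ᵁ V)) :
    primeAt i hVi w ≠ primeAt j hVj w' := by
  classical
  intro h
  have h5 : Function.update (0 : BB c V) j 1 ∈ primeAt i hVi w := by
    show (Function.update (0 : BB c V) j 1) i ∈ (hVi.primeIdealOf w).asIdeal
    rw [Function.update_of_ne hij]; exact Ideal.zero_mem _
  rw [h] at h5
  have h6 : (Function.update (0 : BB c V) j 1) j ∈ (hVj.primeIdealOf w').asIdeal := h5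
  rw [Function.update_self] at h6
  exact (hVj.primeIdealOf w').isPrime.ne_top ((Ideal.eq_top_iff_one _).2 h6)

include hc

/-- Distinct branches give distinct primes. -/
theorem IsContr.exists_primes {y : Y} {V : Y.Opens} (hV : IsAffineOpen V) (hy : y ∈ V) :
    ∃ P : {p : Br c // c p.1.2 = y} → Ideal (BB c V),
      Function.Injective P ∧ ∀ p, (P p).IsPrime ∧
        (P p).comap (algebraMap Γ(Y, V) (BB c V)) = (hV.primeIdealOf ⟨y, hy⟩).asIdeal := by
  have hVi : ∀ i : Alive c, IsAffineOpen (hE i ⁻¹ᵁ V) := fun i => by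
    haveI := hc.isFinite_hE i
    exact hV.preimage (hE i)
  have hlift : ∀ p : {p : Br c // c p.1.2 = y}, ∃ w : ↥(hE p.1.1.1 ⁻¹ᵁ V), redι _ w.1 = p.1.1.2 := fun p => by
    obtain ⟨z, hz⟩ := (mem_range_redι p.1.1.1.2.1).2 p.1.2
    exact ⟨⟨z, show c (redι _ z) ∈ V by rw [hz, p.2]; exact hy⟩, hz⟩
  choose w hw using hlift
  refine ⟨fun p => primeAt p.1.1.1 (hVi _) (w p), fun p q hpq => ?_, fun p => ⟨Ideal.IsPrime.comap _, ?_⟩⟩
  · by_cases hij : p.1.1.1 = q.1.1.1
    · have hkey : ∀ (i j : Alive c) (v : ↥(hE i ⁻¹ᵁ V)) (v' : ↥(hE j ⁻¹ᵁ V)), i = j →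
          primeAt i (hVi i) v = primeAt j (hVi j) v' → redι (clE i.2.1) v.1 = redι (clE j.2.1) v'.1 := by
        intro i j v v' e h
        subst e
        rw [primeAt_inj_same i (hVi i) v v' h]
      have := hkey _ _ (w p) (w q) hij hpq
      rw [hw, hw] at this
      exact Subtype.ext (Subtype.ext (Prod.ext hij this))
    · exact absurd hpq (primeAt_ne _ _ hij _ _ _ _)
  · rw [comap_primeAt hV]
    exact congrArg (fun v : V => (hV.primeIdealOf v).asIdeal) (Subtype.ext ((congrArg c (hw p)).trans p.2))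

theorem IsContr.stalk_setup {y : Y} (hyc : IsClosed ({y} : Set Y)) :
    _root_.IsReduced (Y.presheaf.stalk y) ∧ MildSing (Y.presheaf.stalk y) := by
  haveI := hc.target.proper
  haveI := hc.target.isReduced
  exact ⟨inferInstance, mildSing hc.target hyc⟩

/-- Over a closed point there are at most two branches. -/
theorem IsContr.not_three_branches {y : Y} (hyc : IsClosed ({y} : Set Y)) (p₁ p₂ p₃ : {p : Br c // c p.1.2 = y})
    (h12 : p₁ ≠ p₂) (h13 : p₁ ≠ p₃) (h23 : p₂ ≠ p₃) : False := by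
  obtain ⟨V, hV, hy, -⟩ := exists_isAffineOpen_mem_and_subset (X := Y) (x := y) (U := ⊤) trivial
  haveI := hc.target.isNoetherian
  haveI : IsNoetherianRing Γ(Y, V) := IsLocallyNoetherian.component_noetherian ⟨V, hV⟩
  haveI := hc.finite_BB hV
  haveI := hV.primeIdealOf_isMaximal_of_isClosed ⟨y, hy⟩ hyc
  letI := TopCat.Presheaf.algebra_section_stalk Y.presheaf (⟨y, hy⟩ : V)
  haveI := hV.isLocalization_stalk ⟨y, hy⟩
  obtain ⟨hred, hm⟩ := hc.stalk_setup hyc
  haveI := hred
  obtain ⟨P, hP, hPp⟩ := hc.exists_primes hV hy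
  exact not_three_over _ (Y.presheaf.stalk y) (hc.birat hV) hm (hPp p₁).1 (hPp p₂).1 (hPp p₃).1 (hPp p₁).2 (hPp p₂).2
    (hPp p₃).2 (hP.ne h12) (hP.ne h13) (hP.ne h23)

/-- Over a regular point there is one branch. -/
theorem IsContr.branch_unique {y : Y} (hyc : IsClosed ({y} : Set Y))
    (hreg : IsRegularLocalRing (Y.presheaf.stalk y)) (p₁ p₂ : {p : Br c // c p.1.2 = y}) : p₁ = p₂ := by
  obtain ⟨V, hV, hy, -⟩ := exists_isAffineOpen_mem_and_subset (X := Y) (x := y) (U := ⊤) trivial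
  haveI := hc.target.isNoetherian
  haveI := hc.target.proper
  haveI : IsNoetherianRing Γ(Y, V) := IsLocallyNoetherian.component_noetherian ⟨V, hV⟩
  haveI := hc.finite_BB hV
  haveI := hV.primeIdealOf_isMaximal_of_isClosed ⟨y, hy⟩ hyc
  letI := TopCat.Presheaf.algebra_section_stalk Y.presheaf (⟨y, hy⟩ : V)
  haveI := hV.isLocalization_stalk ⟨y, hy⟩
  obtain ⟨P, hP, hPp⟩ := hc.exists_primes hV hy
  exact hP (eq_of_surjective _ (Y.presheaf.stalk y) (hc.birat hV) (surjective_of_regular hc.target hyc hreg)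
    (hPp p₁).1 (hPp p₂).1 (hPp p₁).2 (hPp p₂).2)

/-- Over an affine open where a component meets every fibre once, functions surject. -/
theorem IsContr.surjective_app_hE (i : Alive c) {V : Y.Opens} (hV : IsAffineOpen V)
    (huniq : ∀ y : Y, y ∈ V → IsClosed ({y} : Set Y) → (c ⁻¹' {y} ∩ i.1).Subsingleton) :
    Function.Surjective ((hE i).app V) := by
  classical
  haveI := hc.isFinite_hE i
  haveI := hc.target.isNoetherian
  haveI := hc.target.proper
  haveI : JacobsonSpace Y := LocallyOfFiniteType.jacobsonSpace (Y ↘ Spec (CommRingCat.of k))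
  intro b
  haveI : IsNoetherianRing Γ(Y, V) := IsLocallyNoetherian.component_noetherian ⟨V, hV⟩
  haveI := hc.finite_BB hV
  let φ := ((hE i).app V).hom
  let J : Ideal Γ(Y, V) :=
    { carrier := {m | ∃ a, φ a = φ m * b}
      add_mem' := fun ⟨a, ha⟩ ⟨a', ha'⟩ => ⟨a + a', by rw [map_add, map_add, ha, ha', add_mul]⟩
      zero_mem' := ⟨0, by rw [map_zero, zero_mul]⟩
      smul_mem' := fun r m ⟨a, ha⟩ => ⟨r * a, by rw [smul_eq_mul, map_mul, map_mul, ha, mul_assoc]⟩ }
  have hJ : J = ⊤ := by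
    by_contra hJ
    obtain ⟨M, hM, hJM⟩ := Ideal.exists_le_maximal J hJ
    letI : Algebra Γ(Y, V) Γ(red (clE i.2.1), hE i ⁻¹ᵁ V) := φ.toAlgebra
    haveI : Module.Finite Γ(Y, V) Γ(red (clE i.2.1), hE i ⁻¹ᵁ V) := (hE i).finite_app V hV
    haveI : Algebra.IsIntegral Γ(Y, V) Γ(red (clE i.2.1), hE i ⁻¹ᵁ V) := ⟨IsIntegral.of_finite _⟩
    by_cases hker : RingHom.ker φ ≤ M
    · obtain ⟨Q, hQ, hQp, hQM⟩ := Ideal.exists_ideal_over_prime_of_isIntegral (R := Γ(Y, V))
        (S := Γ(red (clE i.2.1), hE i ⁻¹ᵁ V)) M ⊥ (by rw [← RingHom.ker_eq_comap_bot]; exact hker)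
      obtain ⟨hzm, hzQ⟩ := eq_primeIdealOf (hV.preimage (hE i)) ⟨Q, hQp⟩
      set z := (hV.preimage (hE i)).fromSpec ⟨Q, hQp⟩
      obtain ⟨hyV, hyM⟩ := eq_primeIdealOf hV ⟨M, hM.isPrime⟩
      set y := hV.fromSpec ⟨M, hM.isPrime⟩
      have hyc : IsClosed ({y} : Set Y) := by
        refine isClosed_singleton_of_isLocallyClosed_singleton ?_
        have h1 : IsClosed ({⟨M, hM.isPrime⟩} : Set (Spec Γ(Y, V))) :=
          (PrimeSpectrum.isClosed_singleton_iff_isMaximal _).2 hM
        have := h1.isLocallyClosed.image hV.fromSpec.isOpenEmbedding.isInducing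
          hV.fromSpec.isOpenEmbedding.isOpen_range.isLocallyClosed
        rwa [Set.image_singleton] at this
      letI := TopCat.Presheaf.algebra_section_stalk Y.presheaf (⟨y, hyV⟩ : V)
      haveI := hV.isLocalization_stalk ⟨y, hyV⟩
      have hMeq : (hV.primeIdealOf ⟨y, hyV⟩).asIdeal = M := congrArg PrimeSpectrum.asIdeal hyM
      haveI : (hV.primeIdealOf ⟨y, hyV⟩).asIdeal.IsMaximal := hMeq.symm ▸ hM
      obtain ⟨hred, hm⟩ := hc.stalk_setup hyc
      haveI := hred
      let ev : BB c V →+* Γ(red (clE i.2.1), hE i ⁻¹ᵁ V) := Pi.evalRingHom _ i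
      have hev : Function.Surjective ev := surjective_eval i
      have hover : ∀ q : Ideal Γ(red (clE i.2.1), hE i ⁻¹ᵁ V), q.IsPrime → q.comap φ = M →
          ∃ (w : red (clE i.2.1)) (hw : w ∈ hE i ⁻¹ᵁ V),
            ((hV.preimage (hE i)).primeIdealOf ⟨w, hw⟩).asIdeal = q ∧ hE i w = y := fun q hq hqM => by
        obtain ⟨hwm, hwq⟩ := eq_primeIdealOf (hV.preimage (hE i)) ⟨q, hq⟩
        refine ⟨_, hwm, congrArg PrimeSpectrum.asIdeal hwq, ?_⟩
        refine primeIdealOf_injective hV hwm hyV (PrimeSpectrum.ext ?_)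
        have h := congrArg PrimeSpectrum.asIdeal
          (IsAffineOpen.comap_primeIdealOf_appLE (f := hE i) V hV (hE i ⁻¹ᵁ V) (hV.preimage (hE i)) le_rfl hwm)
        rw [show (hE i).appLE V (hE i ⁻¹ᵁ V) le_rfl = (hE i).app V from (hE i).app_eq_appLE.symm, hwq] at h
        exact (h.symm.trans hqM).trans hMeq.symm
      have hPev : ∀ Q' : Ideal (BB c V), Q'.IsPrime → RingHom.ker ev ≤ Q' →
          Q'.comap (algebraMap Γ(Y, V) (BB c V)) = M → Q' = Q.comap ev := fun Q' hQ' hKQ hQ'M => by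
        haveI := hQ'
        have hq : (Q'.map ev).IsPrime := Ideal.map_isPrime_of_surjective hev hKQ
        have hback : (Q'.map ev).comap ev = Q' := by
          rw [Ideal.comap_map_of_surjective ev hev, ← RingHom.ker_eq_comap_bot, sup_eq_left.2 hKQ]
        have hqM : (Q'.map ev).comap φ = M := by
          rw [← hQ'M]
          conv_rhs => rw [← hback]
          rfl
        obtain ⟨w, hw, hwq, hwy⟩ := hover _ hq hqM
        obtain ⟨w', hw', hwQ, hwy'⟩ := hover Q hQp hQM
        have hww : w = w' := (redι (clE i.2.1)).isEmbedding.injective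
          (huniq y hyV hyc ⟨hwy, (mem_range_redι i.2.1).1 ⟨w, rfl⟩⟩ ⟨hwy', (mem_range_redι i.2.1).1 ⟨w', rfl⟩⟩)
        subst hww
        rw [← hback, ← hwq, hwQ]
      obtain ⟨m, hm', a, ha⟩ := exists_smul_mem (A := Γ(Y, V)) (hV.primeIdealOf ⟨y, hyV⟩).asIdeal
        (Y.presheaf.stalk y) (hc.birat hV) hm (RingHom.ker ev) (hQp.comap ev)
        (fun r hr => by rw [Ideal.mem_comap, (RingHom.mem_ker).1 hr]; exact Q.zero_mem)
        (by rw [hMeq, ← hQM]; rfl) (fun Q' h1 h2 h3 => hPev Q' h1 h2 (h3.trans hMeq)) (hev b).choose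
      rw [RingHom.mem_ker, map_sub, map_mul, sub_eq_zero] at ha
      refine hm' (hMeq.symm ▸ hJM ⟨a, ?_⟩)
      have h7 := (hev b).choose_spec
      rw [h7] at ha
      exact ha.symm
    · obtain ⟨m, hm, hmM⟩ := SetLike.not_le_iff_exists.1 hker
      exact hmM (hJM ⟨0, by rw [map_zero, (RingHom.mem_ker).1 hm, zero_mul]⟩)
  obtain ⟨a, ha⟩ : (1 : Γ(Y, V)) ∈ J := hJ.symm ▸ Submodule.mem_top
  exact ⟨a, by rwa [map_one, one_mul] at ha⟩

/-- A component meeting every fibre at most once maps isomorphically to its image. -/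
theorem IsContr.isClosedImmersion_hE (i : Alive c)
    (huniq : ∀ y : Y, IsClosed ({y} : Set Y) → (c ⁻¹' {y} ∩ i.1).Subsingleton) : IsClosedImmersion (hE i) := by
  haveI := hc.isFinite_hE i
  rw [isClosedImmersion_iff_isAffineHom]
  exact ⟨inferInstance, fun V hV => hc.surjective_app_hE i hV fun y _ hy => huniq y hy⟩

/-- A component meeting the fibres over an open at most once is embedded over it. -/
theorem IsContr.isClosedImmersion_hE_restrict (i : Alive c) (U : Y.Opens)
    (huniq : ∀ y : Y, y ∈ U → IsClosed ({y} : Set Y) → (c ⁻¹' {y} ∩ i.1).Subsingleton) :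
    IsClosedImmersion (hE i ∣_ U) := by
  haveI := hc.isFinite_hE i
  haveI : IsFinite (hE i ∣_ U) := MorphismProperty.of_isPullback (isPullback_morphismRestrict _ _).flip inferInstance
  rw [isClosedImmersion_iff_isAffineHom]
  refine ⟨inferInstance, fun W hW => ?_⟩
  have hle : U.ι ''ᵁ W ≤ U := fun z hz => by
    obtain ⟨w, -, rfl⟩ := hz
    exact w.2
  have hs := hc.surjective_app_hE i (hW.image_of_isOpenImmersion U.ι) fun y hy => huniq y (hle hy)
  rw [morphismRestrict_app]
  exact (ConcreteCategory.bijective_of_isIso ((red (clE i.2.1)).presheaf.map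
    (eqToHom (image_morphismRestrict_preimage (hE i) U W)).op)).2.comp hs

end Groth.Agent.StabUniq18
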