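import Groth.Agent.Lib.StabUniq18.Fibre
import Groth.Agent.Lib.StabUniq18.Points
import Groth.Prelude.Def_StCurv
import Groth.Agent.Lib.CohFound.QcohAffine

/-!
# Two contractions to stable curves kill the same components
-/

set_option autoImplicit false
set_option linter.style.haveILetI false
set_option maxHeartbeats 1000000
set_option backward.isDefEq.respectTransparency false
set_option backward.isDefEq.respectTransparency.types false

universe u

open CategoryTheory CategoryTheory.Limits AlgebraicGeometry TopologicalSpace Opposite Set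

noncomputable section

namespace Groth.Agent.StabUniq18

variable {k : Type u} [Field k] [IsAlgClosed k] {X Y : Scheme.{u}}
  [X.Over (Spec (CommRingCat.of k))] [Y.Over (Spec (CommRingCat.of k))] {n : ℕ}

/-- The identity is a contraction. -/
theorem IsNodalCurve.isContr_id (hX : IsNodalCurve k X) [ConnectedSpace X] : IsContr k (𝟙 X) where
  source := hX
  target := hX
  conn := inferInstance
  over' := Category.id_comp _
  app U := inferInstance
  h1 V hV := by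
    haveI := hX.proper
    haveI := hX.isNoetherian
    haveI : (Coh.structureModule X).IsQuasicoherent := M1.isQCoh_structureModule X
    exact CohFound.subsingleton_hc_isAffineOpen (Coh.structureModule X) hV 0

theorem not_kills_id (hX : IsNodalCurve k X) {E : Set X} (hE' : E ∈ irreducibleComponents (X : Type u)) :
    ¬ Kills (𝟙 X) E := fun h => hX.comp_not_finite hE' (by simpa [Kills] using h.finite)

/-- A regular closed point lies on one component. -/
theorem IsNodalCurve.comp_unique (hX : IsNodalCurve k X) [ConnectedSpace X] {p : X} (hp : IsClosed ({p} : Set X))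
    (hreg : IsRegularLocalRing (X.presheaf.stalk p)) {E E' : Set X} (hE₁ : E ∈ irreducibleComponents (X : Type u))
    (hE₂ : E' ∈ irreducibleComponents (X : Type u)) (h₁ : p ∈ E) (h₂ : p ∈ E') : E = E' := by
  have h := hX.isContr_id.branch_unique hp hreg
    ⟨⟨(⟨E, hE₁, not_kills_id hX hE₁⟩, p), h₁⟩, rfl⟩ ⟨⟨(⟨E', hE₂, not_kills_id hX hE₂⟩, p), h₂⟩, rfl⟩
  exact congrArg (fun w : {w : Br (𝟙 X) // (𝟙 X : X ⟶ X) w.1.2 = p} => w.1.1.1.1) h

variable (k) in
/-- A contraction of pointed curves. -/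
structure IsPtContr (c : X ⟶ Y) (x : Fin n → X) : Prop extends IsContr k c where
  inj : Function.Injective fun i => c (x i)
  closed : ∀ i, IsClosed ({c (x i)} : Set Y)
  regular : ∀ i, IsRegularLocalRing (Y.presheaf.stalk (c (x i)))
  one_comp : ∀ i, ∀ E ∈ irreducibleComponents (X : Type u), ∀ E' ∈ irreducibleComponents (X : Type u),
    x i ∈ E → x i ∈ E' → E = E'
  connY : ConnectedSpace Y

/-- The special points on a closed set. -/
def spec {Z : Type u} [TopologicalSpace Z] (x : Fin n → Z) (b D : Set Z) : Set (Z ⊕ Fin n) :=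
  Sum.inl '' b ∪ Sum.inr '' {i | x i ∈ D}

theorem encard_spec {Z : Type u} [TopologicalSpace Z] (x : Fin n → Z) (b D : Set Z) :
    (spec x b D).encard = b.encard + (Nat.card {i : Fin n // x i ∈ D} : ℕ∞) := by
  rw [spec, Set.encard_union_eq (Set.disjoint_left.2 (by rintro _ ⟨a, -, rfl⟩ ⟨i, -, hi⟩; exact Sum.inr_ne_inl hi)),
    Sum.inl_injective.encard_image, Sum.inr_injective.encard_image]
  congr 1
  rw [← Set.Finite.cast_ncard_eq (Set.toFinite _), ← Nat.card_coe_set_eq]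
  rfl

theorem encard_le_two_of {α : Type*} {s : Set α}
    (h : ∀ a ∈ s, ∀ b ∈ s, ∀ c ∈ s, a ≠ b → a ≠ c → b ≠ c → False) : s.encard ≤ 2 := by
  by_contra hs
  push Not at hs
  obtain ⟨t, hts, ht⟩ := Set.exists_subset_encard_eq (s := s) (k := 3)
    (by rwa [show (3 : ℕ∞) = 2 + 1 from rfl, ENat.add_one_le_iff (by decide)])
  obtain ⟨a, b, c, hab, hac, hbc, rfl⟩ := Set.encard_eq_three.1 ht
  exact h a (hts (by simp)) b (hts (by simp)) c (hts (by simp)) hab hac hbc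

variable {Y₁ Y₂ : Scheme.{u}} [Y₁.Over (Spec (CommRingCat.of k))] [Y₂.Over (Spec (CommRingCat.of k))]
  {c₁ : X ⟶ Y₁} {c₂ : X ⟶ Y₂} {x : Fin n → X} (h₁ : IsPtContr k c₁ x) (h₂ : IsPtContr k c₂ x)

include h₁

/-- A positive-dimensional fibre has at most two special points. -/
theorem fibre_good {y₀ : Y₁} (hy₀ : IsClosed ({y₀} : Set Y₁))
    (hpos : ∃ E ∈ irreducibleComponents (X : Type u), E ⊆ c₁ ⁻¹' {y₀}) :
    IsSubcurve (c₁ ⁻¹' {y₀}) ∧ (spec x (bdry (c₁ ⁻¹' {y₀})) (c₁ ⁻¹' {y₀})).encard ≤ 2 := by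
  have hc := h₁.toIsContr
  haveI := hc.source.isNoetherian
  set F := c₁ ⁻¹' {y₀} with hF
  have hFc : IsClosed F := hy₀.preimage c₁.continuous
  have hout : ∀ E ∈ irreducibleComponents (X : Type u), ¬ E ⊆ F → ∀ q ∈ E, q ∈ F → ¬ Kills c₁ E :=
    fun E _ hEF q hqE hqF hk => hEF fun w hw => by
      rw [hF, Set.mem_preimage, Set.mem_singleton_iff, ← (show c₁ q = y₀ from hqF)]
      exact hk ⟨w, hw, rfl⟩ ⟨q, hqE, rfl⟩
  have hsub : IsSubcurve F := by
    obtain ⟨E₀, hE₀, hE₀F⟩ := hpos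
    let D := ⋃₀ {E ∈ irreducibleComponents (X : Type u) | E ⊆ F}
    have hD : IsSubcurve D := isSubcurve_biUnion (sep_subset _ _)
    let G := F ∩ ⋃₀ {E ∈ irreducibleComponents (X : Type u) | ¬ E ⊆ F}
    have hGc : IsClosed G := hFc.inter (isSubcurve_biUnion (sep_subset _ _)).closed
    have hGfin : G.Finite := by
      refine Set.Finite.subset (Set.Finite.biUnion
        ((NoetherianSpace.finite_irreducibleComponents (α := X)).subset (sep_subset _ (fun E => ¬ E ⊆ F)))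
        fun E hE' => finite_inter_comp hc.source.dim_le hFc hE'.1 hE'.2) ?_
      rintro z ⟨hzF, E, hE', hzE⟩
      exact Set.mem_biUnion hE' ⟨hzF, hzE⟩
    have hG' : IsClosed (G \ D) := by
      haveI := hc.source.proper
      haveI : JacobsonSpace X := LocallyOfFiniteType.jacobsonSpace (X ↘ Spec (CommRingCat.of k))
      haveI := hGfin.to_subtype
      haveI : JacobsonSpace G := JacobsonSpace.of_isClosedEmbedding hGc.isClosedEmbedding_subtypeVal
      have := hGc.isClosedEmbedding_subtypeVal.isClosedMap _ (isClosed_discrete (Subtype.val ⁻¹' (G \ D) : Set G))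
      rwa [Subtype.image_preimage_coe, Set.inter_eq_right.2 Set.sdiff_subset] at this
    refine ⟨hFc, fun z hz => ?_⟩
    suffices hzD : z ∈ D by
      obtain ⟨E, hE', hzE⟩ := hzD
      exact ⟨E, hE'.1, hzE, hE'.2⟩
    by_contra hzD
    have hcover : F ⊆ D ∪ (G \ D) := fun w hw => by
      by_cases hwD : w ∈ D
      · exact Or.inl hwD
      obtain ⟨E, hE', hwE⟩ := exists_comp w
      exact Or.inr ⟨⟨hw, E, ⟨hE', fun h => hwD ⟨E, ⟨hE', h⟩, hwE⟩⟩, hwE⟩, hwD⟩
    obtain ⟨e, he⟩ := hE₀.1.nonempty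
    obtain ⟨w, -, hwD, hwG⟩ := isPreconnected_closed_iff.1 (hc.isPreconnected_fibre y₀) D (G \ D) hD.closed hG' hcover
      ⟨e, hE₀F he, E₀, ⟨hE₀, hE₀F⟩, he⟩ ⟨z, hz, (hcover hz).resolve_left hzD⟩
    exact hwG.2 hwD
  refine ⟨hsub, ?_⟩
  have hbr : ∀ q ∈ bdry F, ∃ p : {p : Br c₁ // c₁ p.1.2 = y₀}, p.1.1.2 = q := fun q hq => by
    obtain ⟨hqF, E, hE', hEF, hqE⟩ := bdry_subset hq
    exact ⟨⟨⟨(⟨E, hE', hout E hE' hEF q hqE hqF⟩, q), hqE⟩, hqF⟩, rfl⟩
  by_cases hmk : ∃ i, x i ∈ F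
  · obtain ⟨i₀, hi₀⟩ := hmk
    have hy : c₁ (x i₀) = y₀ := hi₀
    have hb : (bdry F).encard ≤ 1 := Set.encard_le_one_iff.2 fun a b ha hb => by
      obtain ⟨p, rfl⟩ := hbr a ha
      obtain ⟨q, rfl⟩ := hbr b hb
      rw [hc.branch_unique hy₀ (hy ▸ h₁.regular i₀) p q]
    have hm : {i : Fin n | x i ∈ F}.encard ≤ 1 := Set.encard_le_one_iff.2 fun a b ha hb =>
      h₁.inj ((show c₁ (x a) = y₀ from ha).trans (show c₁ (x b) = y₀ from hb).symm)
    refine (Set.encard_union_le _ _).trans ?_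
    rw [Sum.inl_injective.encard_image, Sum.inr_injective.encard_image]
    exact (add_le_add hb hm).trans (by norm_num)
  · have hempty : {i : Fin n | x i ∈ F} = ∅ := Set.eq_empty_iff_forall_notMem.2 fun i hi => hmk ⟨i, hi⟩
    rw [spec, hempty, Set.image_empty, Set.union_empty, Sum.inl_injective.encard_image]
    refine encard_le_two_of fun a ha b hb c hc' hab hac hbc => ?_
    obtain ⟨p, rfl⟩ := hbr a ha
    obtain ⟨q, rfl⟩ := hbr b hb
    obtain ⟨r, rfl⟩ := hbr c hc'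
    exact hc.not_three_branches hy₀ p q r (fun e => hab (e ▸ rfl)) (fun e => hac (e ▸ rfl)) (fun e => hbc (e ▸ rfl))

/-- A good piece with two living components has a smaller one. -/
theorem exists_smaller {y₀ : Y₁} (hy₀ : IsClosed ({y₀} : Set Y₁)) {D : Set X} (hD : IsSubcurve D)
    (hDp : _root_.IsPreconnected D) (hDy : D ⊆ c₁ ⁻¹' {y₀}) (hspec : (spec x (bdry D) D).encard ≤ 2)
    {E E' : Set X} (hE₁ : E ∈ irreducibleComponents (X : Type u)) (hE₂ : E' ∈ irreducibleComponents (X : Type u))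
    (hED : E ⊆ D) (hE'D : E' ⊆ D) (hne : E' ≠ E) :
    ∃ D' : Set X, IsSubcurve D' ∧ _root_.IsPreconnected D' ∧ D' ⊆ D ∧ (spec x (bdry D') D').encard ≤ 2 ∧
      (E ⊆ D' ∧ ¬ E' ⊆ D' ∨ E' ⊆ D' ∧ ¬ E ⊆ D') := by
  have hc := h₁.toIsContr
  haveI := hc.source.isNoetherian
  obtain ⟨A, B, hA, hB, hAp, hBp, hAD, hBD, hEB, hE'A, hABE, hEA, hE'B, ⟨q, hqA, hqB⟩, hcov⟩ :=
    exists_split hc.source.dim_le hD hDp hE₁ hED hE₂ hE'D hne
  have hAB : A ∩ B ⊆ {q} := fun w hw => by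
    refine hc.tree hy₀ hA.closed (isClosed_of_mem_irreducibleComponents E hE₁) hAp hE₁.1.isConnected.isPreconnected
      (hAD.trans hDy) (hED.trans hDy) (finite_inter_comp hc.source.dim_le hA.closed hE₁ hEA)
      ⟨hw.1, hABE hw⟩ ⟨hqA, hABE ⟨hqA, hqB⟩⟩
  have hsub : ∀ P Q : Set X, IsClosed Q → D = P ∪ Q → A ∩ B = P ∩ Q → spec x (bdry P) P ⊆ spec x (bdry D) D ∪ {Sum.inl q} := by
    intro P Q hQ hPQ hPQ' s hs
    rcases hs with ⟨w, ⟨hwP, hwc⟩, rfl⟩ | ⟨i, hi, rfl⟩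
    · have : w ∈ closure Dᶜ ∪ Q := by
        refine closure_minimal (fun v hv => ?_) (isClosed_closure.union hQ) hwc
        by_cases hvD : v ∈ D
        · exact Or.inr ((hPQ.subset hvD).resolve_left hv)
        · exact Or.inl (subset_closure hvD)
      rcases this with h | h
      · exact Or.inl (Or.inl ⟨w, ⟨hPQ.symm.subset (Or.inl hwP), h⟩, rfl⟩)
      · exact Or.inr (by rw [Set.mem_singleton_iff]; congr 1; exact hAB (hPQ'.symm.subset ⟨hwP, h⟩))
    · exact Or.inl (Or.inr ⟨i, hPQ.symm.subset (Or.inl hi), rfl⟩)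
  have hU : spec x (bdry A) A ∪ spec x (bdry B) B ⊆ spec x (bdry D) D ∪ {Sum.inl q} :=
    Set.union_subset (hsub A B hB.closed hcov rfl) (hsub B A hA.closed (hcov.trans (Set.union_comm A B)) (Set.inter_comm A B))
  have hI : spec x (bdry A) A ∩ spec x (bdry B) B ⊆ {Sum.inl q} := by
    rintro s ⟨hsA, hsB⟩
    rcases hsA with ⟨w, hw, rfl⟩ | ⟨i, hi, rfl⟩
    · rcases hsB with ⟨w', hw', e⟩ | ⟨i, -, e⟩
      · obtain rfl := Sum.inl_injective e
        rw [hAB ⟨hw.1, hw'.1⟩]; rfl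
      · exact absurd e Sum.inr_ne_inl
    · rcases hsB with ⟨w', -, e⟩ | ⟨j, hj, e⟩
      · exact absurd e.symm Sum.inr_ne_inl
      · obtain rfl := Sum.inr_injective e
        obtain ⟨G, hG, hiG, hGA⟩ := hA.cover _ hi
        have : G = E := h₁.one_comp j G hG E hE₁ hiG (hABE ⟨hi, hj⟩)
        exact absurd (this ▸ hGA) hEA
  have hsum : (spec x (bdry A) A).encard + (spec x (bdry B) B).encard ≤ 4 := by
    rw [← Set.encard_union_add_encard_inter]
    refine (add_le_add ((Set.encard_le_encard hU).trans (Set.encard_union_le _ _)) (Set.encard_le_encard hI)).trans ?_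
    rw [Set.encard_singleton]
    exact (add_le_add (add_le_add hspec le_rfl) le_rfl).trans (by norm_num)
  by_cases hA2 : (spec x (bdry A) A).encard ≤ 2
  · exact ⟨A, hA, hAp, hAD, hA2, Or.inr ⟨hE'A, hEA⟩⟩
  · refine ⟨B, hB, hBp, hBD, ?_, Or.inl ⟨hEB, hE'B⟩⟩
    by_contra hB2
    have h3 : ∀ {a : ℕ∞}, ¬ a ≤ 2 → 3 ≤ a := fun {a} ha => by
      rw [show (3 : ℕ∞) = 2 + 1 from rfl, ENat.add_one_le_iff (by decide)]; exact not_le.1 ha
    exact absurd ((add_le_add (h3 hA2) (h3 hB2)).trans hsum) (by decide)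

include h₂

/-- A component killed by the first contraction only. -/
theorem exists_unstable (hne : ∃ E ∈ irreducibleComponents (X : Type u), Kills c₁ E ∧ ¬ Kills c₂ E) :
    ∃ i : Alive c₂, Kills c₁ i.1 ∧
      ((IsClosedImmersion (hE i) ∧
          (CurvSt.meetPts Y₂ (c₂ '' i.1)).encard + (Nat.card {j : Fin n // c₂ (x j) ∈ c₂ '' i.1} : ℕ∞) ≤ 2) ∨
        (n = 0 ∧ c₂ '' i.1 = Set.univ ∧ ∀ y y' : Y₂, IsClosed ({y} : Set Y₂) → IsClosed ({y'} : Set Y₂) →
          ¬ (c₂ ⁻¹' {y} ∩ i.1).Subsingleton → ¬ (c₂ ⁻¹' {y'} ∩ i.1).Subsingleton → y = y')) := by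
  have hc₁ := h₁.toIsContr
  have hc₂ := h₂.toIsContr
  haveI := hc₁.source.isNoetherian
  haveI := hc₂.target.isNoetherian
  obtain ⟨E₀, hE₀, hk₀, hnk₀⟩ := hne
  obtain ⟨y₀, hy₀, he₀⟩ := hc₁.isClosed_image_of_kills hE₀ hk₀
  have hE₀F : E₀ ⊆ c₁ ⁻¹' {y₀} := fun w hw => he₀.subset ⟨w, hw, rfl⟩
  obtain ⟨hFsub, hFspec⟩ := fibre_good h₁ hy₀ ⟨E₀, hE₀, hE₀F⟩
  -- a minimal good piece with a living component
  let Good : Set X → Prop := fun D => IsSubcurve D ∧ _root_.IsPreconnected D ∧ D ⊆ c₁ ⁻¹' {y₀} ∧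
    (spec x (bdry D) D).encard ≤ 2 ∧ ∃ E ∈ irreducibleComponents (X : Type u), E ⊆ D ∧ ¬ Kills c₂ E
  let μ : Set X → ℕ := fun D => {E ∈ irreducibleComponents (X : Type u) | E ⊆ D}.ncard
  obtain ⟨D, ⟨hD, hDp, hDy, hspec, E, hE', hED, hnk⟩, hmin⟩ :=
    (InvImage.wf μ Nat.lt_wfRel.wf).has_min {D | Good D}
      ⟨c₁ ⁻¹' {y₀}, hFsub, hc₁.isPreconnected_fibre y₀, subset_rfl, hFspec, E₀, hE₀, hE₀F, hnk₀⟩
  have honly : ∀ G ∈ irreducibleComponents (X : Type u), G ⊆ D → ¬ Kills c₂ G → G = E := by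
    intro G hG hGD hGk
    by_contra hGE
    obtain ⟨D', hD', hD'p, hD'D, hD'spec, hcase⟩ := exists_smaller h₁ hy₀ hD hDp hDy hspec hE' hG hED hGD hGE
    have hlt : ∀ {a b : Set X}, a ∈ irreducibleComponents (X : Type u) → a ⊆ D → ¬ a ⊆ D' → μ D' < μ D := fun {a b} ha haD haD' =>
      Set.ncard_lt_ncard ⟨fun F hF => ⟨hF.1, hF.2.trans hD'D⟩, fun h => haD' (h ⟨ha, haD⟩).2⟩
        (NoetherianSpace.finite_irreducibleComponents.subset (sep_subset _ _))
    rcases hcase with ⟨hin, hout⟩ | ⟨hin, hout⟩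
    · exact hmin D' ⟨hD', hD'p, hD'D.trans hDy, hD'spec, E, hE', hin, hnk⟩ (hlt (b := ∅) hG hGD hout)
    · exact hmin D' ⟨hD', hD'p, hD'D.trans hDy, hD'spec, G, hG, hin, hGk⟩ (hlt (b := ∅) hE' hED hout)
  have hk : Kills c₁ E := by
    rintro _ ⟨a, ha, rfl⟩ _ ⟨b, hb, rfl⟩
    rw [show c₁ a = y₀ from hDy (hED ha), show c₁ b = y₀ from hDy (hED hb)]
  refine ⟨⟨E, hE', hnk⟩, hk, ?_⟩
  let W := c₂ '' E
  have hW : W ∈ irreducibleComponents (Y₂ : Type u) := hc₂.image_mem_components hE' hnk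
  let π : X ⊕ Fin n → Y₂ := Sum.elim (fun w => c₂ w) fun i => c₂ (x i)
  let πY : Y₂ ⊕ Fin n → Y₂ := Sum.elim id fun i => c₂ (x i)
  haveI := h₂.connY
  -- special points of the image come from special points of the piece
  have hin : ∀ y : Y₂, y ∈ πY '' spec (fun i => c₂ (x i)) (CurvSt.meetPts Y₂ W) W → y ∈ π '' spec x (bdry D) D := by
    intro y hy
    have hyW : y ∈ W := by
      obtain ⟨s, (⟨w, hw, rfl⟩ | ⟨i, hi, rfl⟩), rfl⟩ := hy
      exacts [hw.1, hi]
    obtain ⟨q, hqE, hqy⟩ := hyW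
    by_cases hPD : c₂ ⁻¹' {y} ⊆ D
    · obtain ⟨s, (⟨w, ⟨hwW, W', hW', hne', hwW'⟩, rfl⟩ | ⟨i, hi, rfl⟩), rfl⟩ := hy
      · obtain ⟨E', hE'', hk', he'⟩ := hc₂.exists_comp_over hW'
        obtain ⟨q', hq', hq'y⟩ : w ∈ c₂ '' E' := he'.symm ▸ hwW'
        have hE'D : ¬ E' ⊆ D := fun h => hne' (by rw [← he', honly E' hE'' h hk'])
        exact ⟨Sum.inl q', Or.inl ⟨q', mem_bdry_of_comp hD.closed hE'' hE'D hq' (hPD hq'y), rfl⟩, hq'y⟩
      · exact ⟨Sum.inr i, Or.inr ⟨i, hPD rfl, rfl⟩, rfl⟩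
    · have hyc : IsClosed ({y} : Set Y₂) := by
        obtain ⟨s, (⟨w, ⟨hwW, W', hW', hne', hwW'⟩, rfl⟩ | ⟨i, hi, rfl⟩), rfl⟩ := hy
        · have hfin := finite_inter_comp hc₂.target.dim_le (isClosed_of_mem_irreducibleComponents W hW) hW'
            fun h => hne' (eq_of_comp_subset hW' hW h)
          haveI := hfin.to_subtype
          haveI := hc₂.target.proper
          haveI : JacobsonSpace Y₂ := LocallyOfFiniteType.jacobsonSpace (Y₂ ↘ Spec (CommRingCat.of k))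
          have hcl := (isClosed_of_mem_irreducibleComponents W hW).inter (isClosed_of_mem_irreducibleComponents W' hW')
          haveI : JacobsonSpace ↥(W ∩ W') := JacobsonSpace.of_isClosedEmbedding hcl.isClosedEmbedding_subtypeVal
          simpa [πY] using hcl.isClosedEmbedding_subtypeVal.isClosedMap {⟨w, hwW, hwW'⟩} (isClosed_discrete _)
        · exact h₂.closed i
      obtain ⟨r, hrZ, hr⟩ := exists_mem_closure_diff (hyc.preimage c₂.continuous) (hc₂.isPreconnected_fibre y) hD.closed hPD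
        (q := q) rfl ⟨hqy, hED hqE⟩
      exact ⟨Sum.inl r, Or.inl ⟨r, hr, rfl⟩, (connectedComponentIn_subset _ _ hrZ).1⟩
  have hinjY : Set.InjOn πY (spec (fun i => c₂ (x i)) (CurvSt.meetPts Y₂ W) W) := by
    have hmm : ∀ w ∈ CurvSt.meetPts Y₂ W, ∀ i, w ≠ c₂ (x i) := by
      rintro w ⟨hwW, W', hW', hne', hwW'⟩ i rfl
      exact hne' (hc₂.target.comp_unique (h₂.closed i) (h₂.regular i) hW' hW hwW' hwW)
    rintro (a | a) ha (b | b) hb e
    · exact congrArg Sum.inl e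
    · rcases ha with ⟨w, hw, e'⟩ | ⟨i, -, e'⟩
      · cases e'; exact absurd e (hmm _ hw b)
      · cases e'
    · rcases hb with ⟨w, hw, e'⟩ | ⟨i, -, e'⟩
      · cases e'; exact absurd e.symm (hmm _ hw a)
      · cases e'
    · exact congrArg Sum.inr (h₂.inj e)
  have hcount : (spec (fun i => c₂ (x i)) (CurvSt.meetPts Y₂ W) W).encard ≤ (π '' spec x (bdry D) D).encard := by
    rw [← hinjY.encard_image]
    exact Set.encard_le_encard hin
  by_cases huniq : ∀ y : Y₂, IsClosed ({y} : Set Y₂) → (c₂ ⁻¹' {y} ∩ E).Subsingleton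
  · refine Or.inl ⟨hc₂.isClosedImmersion_hE ⟨E, hE', hnk⟩ huniq, ?_⟩
    rw [← encard_spec (fun i => c₂ (x i))]
    exact hcount.trans ((Set.encard_image_le _ _).trans hspec)
  · push Not at huniq
    obtain ⟨y, hy, hy2⟩ := huniq
    have hloop : ∀ y : Y₂, IsClosed ({y} : Set Y₂) → ¬ (c₂ ⁻¹' {y} ∩ E).Subsingleton →
        π '' spec x (bdry D) D = {y} ∧ y ∉ πY '' spec (fun i => c₂ (x i)) (CurvSt.meetPts Y₂ W) W := by
      intro y hy hy2
      obtain ⟨q₁, ⟨hq₁P, hq₁E⟩, q₂, ⟨hq₂P, hq₂E⟩, hq12⟩ := Set.not_subsingleton_iff.1 hy2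
      let P := c₂ ⁻¹' {y}
      have hPc : IsClosed P := hy.preimage c₂.continuous
      have hPE : ¬ E ⊆ P := fun h => hnk fun a ⟨a', ha', ea⟩ b ⟨b', hb', eb⟩ => by
        rw [← ea, ← eb, show c₂ a' = y from h ha', show c₂ b' = y from h hb']
      have hZ : ∀ q ∈ P ∩ D, ∀ a ∈ connectedComponentIn (P ∩ D) q ∩ E, ∀ b ∈ connectedComponentIn (P ∩ D) q ∩ E, a = b := by
        intro q hq a ha b hb
        have hZc : IsClosed (connectedComponentIn (P ∩ D) q) := by
          refine closure_subset_iff_isClosed.1 ?_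
          exact (isPreconnected_connectedComponentIn.closure).subset_connectedComponentIn
            (subset_closure (mem_connectedComponentIn hq))
            (closure_minimal (connectedComponentIn_subset _ _) (hPc.inter hD.closed))
        have hfin : (connectedComponentIn (P ∩ D) q ∩ E).Finite :=
          (finite_inter_comp hc₁.source.dim_le hPc hE' hPE).subset
            (Set.inter_subset_inter_left _ ((connectedComponentIn_subset _ _).trans Set.inter_subset_left))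
        exact hc₁.tree hy₀ hZc (isClosed_of_mem_irreducibleComponents E hE') isPreconnected_connectedComponentIn
          hE'.1.isConnected.isPreconnected ((connectedComponentIn_subset _ _).trans (Set.inter_subset_right.trans hDy))
          (hED.trans hDy) hfin ha hb
      have hPD : ¬ P ⊆ D := fun h => hq12 (by
        have hall : ∀ q ∈ P, q ∈ connectedComponentIn (P ∩ D) q₁ := fun q hq =>
          (hc₂.isPreconnected_fibre y).subset_connectedComponentIn hq₁P (fun w hw => Set.mem_inter hw (h hw)) hq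
        exact hZ q₁ ⟨hq₁P, hED hq₁E⟩ q₁ ⟨hall _ hq₁P, hq₁E⟩ q₂ ⟨hall _ hq₂P, hq₂E⟩)
      obtain ⟨r₁, hr₁Z, hr₁⟩ := exists_mem_closure_diff hPc (hc₂.isPreconnected_fibre y) hD.closed hPD
        (q := q₁) rfl ⟨hq₁P, hED hq₁E⟩
      obtain ⟨r₂, hr₂Z, hr₂⟩ := exists_mem_closure_diff hPc (hc₂.isPreconnected_fibre y) hD.closed hPD
        (q := q₂) rfl ⟨hq₂P, hED hq₂E⟩
      have hr12 : r₁ ≠ r₂ := fun e => hq12 (by
        have h1 := connectedComponentIn_eq hr₁Z
        have h2 := connectedComponentIn_eq hr₂Z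
        rw [e, ← h2] at h1
        exact hZ q₂ ⟨hq₂P, hED hq₂E⟩ q₁ ⟨h1 ▸ mem_connectedComponentIn ⟨hq₁P, hED hq₁E⟩, hq₁E⟩
          q₂ ⟨mem_connectedComponentIn ⟨hq₂P, hED hq₂E⟩, hq₂E⟩)
      have hpair : spec x (bdry D) D = {Sum.inl r₁, Sum.inl r₂} := by
        refine ((Set.toFinite _).eq_of_subset_of_encard_le ?_ ?_).symm
        · rintro s (rfl | rfl)
          exacts [Or.inl (Set.mem_image_of_mem _ hr₁), Or.inl (Set.mem_image_of_mem _ hr₂)]
        · rw [Set.encard_pair (fun e => hr12 (Sum.inl_injective e))]; exact hspec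
      refine ⟨?_, ?_⟩
      · rw [hpair, Set.image_pair]
        have e1 : π (Sum.inl r₁) = y := (connectedComponentIn_subset _ _ hr₁Z).1
        have e2 : π (Sum.inl r₂) = y := (connectedComponentIn_subset _ _ hr₂Z).1
        rw [e1, e2, Set.pair_eq_singleton]
      · rintro ⟨s, (⟨w, ⟨hwW, W', hW', hne', hwW'⟩, rfl⟩ | ⟨i, hi, rfl⟩), hsy⟩
        · obtain rfl : w = y := hsy
          obtain ⟨E', hE'', hk', he'⟩ := hc₂.exists_comp_over hW'
          obtain ⟨q', hq', hq'y⟩ : w ∈ c₂ '' E' := he'.symm ▸ hwW'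
          have hEE : (⟨E', hE'', hk'⟩ : Alive c₂) ≠ ⟨E, hE', hnk⟩ := fun e => hne' (by
            rw [← he', show E' = E from congrArg Subtype.val e])
          refine hc₂.not_three_branches hy ⟨⟨(⟨E, hE', hnk⟩, q₁), hq₁E⟩, hq₁P⟩ ⟨⟨(⟨E, hE', hnk⟩, q₂), hq₂E⟩, hq₂P⟩
            ⟨⟨(⟨E', hE'', hk'⟩, q'), hq'⟩, hq'y⟩ (fun e => hq12 ?_) (fun e => hEE ?_) (fun e => hEE ?_)
          · exact congrArg (fun p : {p : Br c₂ // c₂ p.1.2 = w} => p.1.1.2) e
          · exact (congrArg (fun p : {p : Br c₂ // c₂ p.1.2 = w} => p.1.1.1) e).symm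
          · exact (congrArg (fun p : {p : Br c₂ // c₂ p.1.2 = w} => p.1.1.1) e).symm
        · obtain rfl : c₂ (x i) = y := hsy
          refine hq12 (congrArg (fun p : {p : Br c₂ // c₂ p.1.2 = c₂ (x i)} => p.1.1.2)
            (hc₂.branch_unique hy (h₂.regular i) ⟨⟨(⟨E, hE', hnk⟩, q₁), hq₁E⟩, hq₁P⟩ ⟨⟨(⟨E, hE', hnk⟩, q₂), hq₂E⟩, hq₂P⟩))
    have hnone : spec (fun i => c₂ (x i)) (CurvSt.meetPts Y₂ W) W = ∅ := Set.eq_empty_iff_forall_notMem.2 fun s hs => by
      have h3 := hin _ ⟨s, hs, rfl⟩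
      rw [(hloop y hy (Set.not_subsingleton_iff.2 hy2)).1] at h3
      exact (hloop y hy (Set.not_subsingleton_iff.2 hy2)).2 ⟨s, hs, h3⟩
    have huniv : W = Set.univ := by
      by_contra hW'
      obtain ⟨z, hz⟩ := (Set.ne_univ_iff_exists_notMem _).1 hW'
      obtain ⟨e, he⟩ := hW.1.nonempty
      obtain ⟨w, -, hwW, W', hW'', hwW'⟩ := isPreconnected_closed_iff.1 isPreconnected_univ W
        (⋃₀ {V ∈ irreducibleComponents (Y₂ : Type u) | V ≠ W}) (isClosed_of_mem_irreducibleComponents W hW)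
        (isSubcurve_biUnion (sep_subset _ _)).closed
        (fun v _ => by
          obtain ⟨V, hV, hvV⟩ := exists_comp v
          exact (em (V = W)).elim (fun e => Or.inl (e ▸ hvV)) fun e => Or.inr ⟨V, ⟨hV, e⟩, hvV⟩)
        ⟨e, trivial, he⟩ (by
          obtain ⟨V, hV, hzV⟩ := exists_comp z
          exact ⟨z, trivial, V, ⟨hV, fun e => hz (e ▸ hzV)⟩, hzV⟩)
      exact Set.eq_empty_iff_forall_notMem.1 hnone (Sum.inl w) (Or.inl ⟨w, ⟨hwW, W', hW''.1, hW''.2, hwW'⟩, rfl⟩)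
    refine Or.inr ⟨?_, huniv, fun a b ha hb ha2 hb2 => ?_⟩
    · by_contra hn
      refine Set.eq_empty_iff_forall_notMem.1 hnone (Sum.inr ⟨0, Nat.pos_of_ne_zero hn⟩) (Or.inr ⟨_, ?_, rfl⟩)
      show c₂ (x _) ∈ W
      rw [huniv]; trivial
    · have h4 := (hloop a ha ha2).1
      rw [(hloop b hb hb2).1] at h4
      exact (Set.singleton_eq_singleton_iff.1 h4).symm

end Groth.Agent.StabUniq18
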