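import Groth.Agent.Lib.PicLift19.Top
import Mathlib.Topology.Connected.Basic
import Mathlib.Topology.Connected.TotallyDisconnected
import Mathlib.Topology.Irreducible
import Mathlib.Data.Set.Card

/-!
# Unions of components of a one-dimensional noetherian space
-/

set_option autoImplicit false

universe u

open TopologicalSpace Set

namespace Groth.Agent.StabUniq18

variable {X : Type u} [TopologicalSpace X]

/-- The boundary of a closed union of components: the points shared with the rest. -/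
def bdry (D : Set X) : Set X := D ∩ closure Dᶜ

/-- A closed union of irreducible components. -/
structure IsSubcurve (D : Set X) : Prop where
  closed : IsClosed D
  cover : ∀ z ∈ D, ∃ E ∈ irreducibleComponents X, z ∈ E ∧ E ⊆ D

theorem exists_comp (z : X) : ∃ E ∈ irreducibleComponents X, z ∈ E :=
  ⟨irreducibleComponent z, irreducibleComponent_mem_irreducibleComponents z, mem_irreducibleComponent⟩

theorem eq_of_comp_subset {E E' : Set X} (hE : E ∈ irreducibleComponents X) (hE' : E' ∈ irreducibleComponents X)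
    (h : E ⊆ E') : E = E' :=
  (hE.eq_of_subset hE'.1 h)

theorem isSubcurve_comp {E : Set X} (hE : E ∈ irreducibleComponents X) : IsSubcurve E :=
  ⟨isClosed_of_mem_irreducibleComponents E hE, fun _ hz => ⟨E, hE, hz, subset_rfl⟩⟩

variable [NoetherianSpace X]

theorem isSubcurve_biUnion {s : Set (Set X)} (hs : s ⊆ irreducibleComponents X) : IsSubcurve (⋃₀ s) := by
  refine ⟨?_, fun z ⟨E, hE, hz⟩ => ⟨E, hs hE, hz, fun w hw => ⟨E, hE, hw⟩⟩⟩
  rw [sUnion_eq_biUnion]
  exact (NoetherianSpace.finite_irreducibleComponents.subset hs).isClosed_biUnion fun E hE =>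
    isClosed_of_mem_irreducibleComponents E (hs hE)

/-- The closure of a complement is the union of the other components. -/
theorem closure_compl_subset {D : Set X} :
    closure Dᶜ ⊆ ⋃₀ {E ∈ irreducibleComponents X | ¬ E ⊆ D} := by
  refine closure_minimal (fun z hz => ?_) (isSubcurve_biUnion (sep_subset _ _)).closed
  obtain ⟨E, hE, hzE⟩ := exists_comp z
  exact ⟨E, ⟨hE, fun h => hz (h hzE)⟩, hzE⟩

theorem mem_bdry_of_comp {D E : Set X} (hD : IsClosed D) (hE : E ∈ irreducibleComponents X) (hED : ¬ E ⊆ D)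
    {z : X} (hzE : z ∈ E) (hzD : z ∈ D) : z ∈ bdry D := by
  refine ⟨hzD, ?_⟩
  have h : E ⊆ D ∪ closure Dᶜ := fun w _ => (em (w ∈ D)).imp id fun h => subset_closure h
  exact (isPreirreducible_iff_isClosed_union_isClosed.1 hE.1.2 D (closure Dᶜ) hD isClosed_closure h).resolve_left hED hzE

theorem bdry_subset {D : Set X} :
    bdry D ⊆ {z | z ∈ D ∧ ∃ E ∈ irreducibleComponents X, ¬ E ⊆ D ∧ z ∈ E} := by
  rintro z ⟨hz, hc⟩
  obtain ⟨E, ⟨hE, hED⟩, hzE⟩ := closure_compl_subset hc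
  exact ⟨hz, E, hE, hED, hzE⟩

/-- A closed piece of a connected set meets the closure of the rest. -/
theorem exists_mem_closure_diff {P D Z : Set X} (hPc : IsClosed P) (hP : IsPreconnected P) (hD : IsClosed D)
    (hPD : ¬ P ⊆ D) {q : X} (hZ : Z = connectedComponentIn (P ∩ D) q) (hq : q ∈ P ∩ D) :
    ∃ r ∈ Z, r ∈ bdry D := by
  by_contra hno
  push Not at hno
  obtain ⟨S, hS, hSc, hSi, hSe⟩ := NoetherianSpace.exists_finite_set_isClosed_irreducible (hPc.inter hD)
  let R : Set X := ⋃₀ {C ∈ S | Disjoint C Z}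
  have hR : IsClosed R := by
    rw [show R = ⋃₀ _ from rfl, sUnion_eq_biUnion]
    exact (hS.subset (sep_subset _ _)).isClosed_biUnion fun C hC => hSc C hC.1
  have hcov : P ∩ D ⊆ Z ∪ R := by
    intro z hz
    obtain ⟨C, hC, hzC⟩ := hSe ▸ hz
    by_cases h : Disjoint C Z
    · exact Or.inr ⟨C, ⟨hC, h⟩, hzC⟩
    · obtain ⟨w, hwC, hwZ⟩ := not_disjoint_iff.1 h
      rw [hZ] at hwZ ⊢
      rw [connectedComponentIn_eq hwZ]
      exact Or.inl ((hSi C hC).isConnected.isPreconnected.subset_connectedComponentIn hwC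
        (fun v hv => hSe.symm.subset ⟨C, hC, hv⟩) hzC)
  have hZs : Z ⊆ P ∩ D := hZ ▸ connectedComponentIn_subset _ _
  have hqZ : q ∈ Z := hZ ▸ mem_connectedComponentIn hq
  have hZc : IsClosed Z := by
    subst hZ
    refine closure_subset_iff_isClosed.1 ?_
    exact (isPreconnected_connectedComponentIn.closure).subset_connectedComponentIn
      (subset_closure (mem_connectedComponentIn hq))
      (closure_minimal (connectedComponentIn_subset _ _) (hPc.inter hD))
  obtain ⟨p, hpP, hpD⟩ := not_subset.1 hPD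
  obtain ⟨z, hzP, hzZ, hz⟩ := isPreconnected_closed_iff.1 hP Z (R ∪ closure (P \ D)) hZc
    (hR.union isClosed_closure)
    (fun z hz => (em (z ∈ D)).elim (fun h => (hcov ⟨hz, h⟩).imp id Or.inl)
      (fun h => Or.inr (Or.inr (subset_closure ⟨hz, h⟩))))
    ⟨q, hq.1, hqZ⟩ ⟨p, hpP, Or.inr (subset_closure ⟨hpP, hpD⟩)⟩
  rcases hz with ⟨C, hC, hzC⟩ | hz
  · exact Set.disjoint_left.1 hC.2 hzC hzZ
  · exact hno z hzZ ⟨(hZs hzZ).2, closure_mono (fun w hw => hw.2) hz⟩

variable [QuasiSober X] [T0Space X]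

theorem finite_of_no_comp (hd : topologicalKrullDim X ≤ 1) {Z : Set X} (hZ : IsClosed Z)
    (h : ∀ E ∈ irreducibleComponents X, ¬ E ⊆ Z) : Z.Finite := by
  refine PicLift19.finite_of_closed_points hZ fun z hz => ?_
  obtain ⟨E, hE, hzE⟩ := exists_comp z
  obtain ⟨γ, hγ⟩ := QuasiSober.sober hE.1 (isClosed_of_mem_irreducibleComponents E hE)
  refine PicLift19.isClosed_singleton_of_dim_le_one hd (η := γ) (z := z) (hγ.specializes hzE) fun e => h E hE ?_
  rw [← hγ.def, e]
  exact closure_minimal (singleton_subset_iff.2 hz) hZ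

theorem finite_inter_comp (hd : topologicalKrullDim X ≤ 1) {D E : Set X} (hD : IsClosed D)
    (hE : E ∈ irreducibleComponents X) (h : ¬ E ⊆ D) : (D ∩ E).Finite :=
  finite_of_no_comp hd (hD.inter (isClosed_of_mem_irreducibleComponents E hE)) fun E' hE' hE's => by
    obtain rfl := eq_of_comp_subset hE' hE (hE's.trans inter_subset_right)
    exact h (hE's.trans inter_subset_left)

/-- Cut a connected union of components at one component. -/
theorem exists_split (hd : topologicalKrullDim X ≤ 1) {D E E' : Set X} (hD : IsSubcurve D)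
    (hDc : IsPreconnected D) (hE : E ∈ irreducibleComponents X) (hED : E ⊆ D)
    (hE' : E' ∈ irreducibleComponents X) (hE'D : E' ⊆ D) (hne : E' ≠ E) :
    ∃ A B : Set X, IsSubcurve A ∧ IsSubcurve B ∧ IsPreconnected A ∧ IsPreconnected B ∧ A ⊆ D ∧ B ⊆ D ∧
      E ⊆ B ∧ E' ⊆ A ∧ A ∩ B ⊆ E ∧ ¬ E ⊆ A ∧ ¬ E' ⊆ B ∧ (A ∩ B).Nonempty ∧ D = A ∪ B := by
  let s : Set (Set X) := {F ∈ irreducibleComponents X | F ⊆ D ∧ F ≠ E}
  have hs : IsSubcurve (⋃₀ s) := isSubcurve_biUnion (sep_subset _ _)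
  obtain ⟨p, hp⟩ := hE'.1.nonempty
  have hpK : p ∈ ⋃₀ s := ⟨E', ⟨hE', hE'D, hne⟩, hp⟩
  let A := connectedComponentIn (⋃₀ s) p
  have hmem : ∀ F ∈ s, ∀ w ∈ F, w ∈ A → F ⊆ A := fun F hF w hwF hwA => by
    rw [show A = connectedComponentIn (⋃₀ s) w from connectedComponentIn_eq hwA]
    exact hF.1.1.isConnected.isPreconnected.subset_connectedComponentIn hwF fun v hv => ⟨F, hF, hv⟩
  have hAeq : A = ⋃₀ {F ∈ s | F ⊆ A} := by
    refine subset_antisymm (fun w hw => ?_) (fun w ⟨F, hF, hw⟩ => hF.2 hw)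
    obtain ⟨F, hF, hwF⟩ := connectedComponentIn_subset _ _ hw
    exact ⟨F, ⟨hF, hmem F hF w hwF hw⟩, hwF⟩
  have hA : IsSubcurve A := hAeq ▸ isSubcurve_biUnion (fun F hF => hF.1.1)
  let t : Set (Set X) := {F ∈ irreducibleComponents X | F ⊆ D ∧ ¬ F ⊆ A}
  have hB : IsSubcurve (⋃₀ t) := isSubcurve_biUnion (sep_subset _ _)
  have hEA : ¬ E ⊆ A := fun h => by
    obtain ⟨γ, hγ⟩ := QuasiSober.sober hE.1 (isClosed_of_mem_irreducibleComponents E hE)
    obtain ⟨F, hF, hγF⟩ := connectedComponentIn_subset _ _ (h hγ.mem)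
    refine hF.2.2 (eq_of_comp_subset hE hF.1 ?_).symm
    rw [← hγ.def]
    exact closure_minimal (singleton_subset_iff.2 hγF) (isClosed_of_mem_irreducibleComponents F hF.1)
  have hEt : E ∈ t := ⟨hE, hED, hEA⟩
  have hE'A : E' ⊆ A := hmem E' ⟨hE', hE'D, hne⟩ p hp (mem_connectedComponentIn hpK)
  have hAB : A ∩ ⋃₀ t ⊆ E := by
    rintro w ⟨hwA, F, hF, hwF⟩
    by_contra hwE
    exact hF.2.2 (hmem F ⟨hF.1, hF.2.1, fun e => hwE (e ▸ hwF)⟩ w hwF hwA)
  have hcov : D = A ∪ ⋃₀ t := by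
    refine subset_antisymm (fun w hw => ?_) (union_subset ?_ (fun w ⟨F, hF, hw⟩ => hF.2.1 hw))
    · obtain ⟨F, hF, hwF, hFD⟩ := hD.cover w hw
      exact (em (F ⊆ A)).imp (fun h => h hwF) fun h => ⟨F, ⟨hF, hFD, h⟩, hwF⟩
    · intro w hw
      obtain ⟨F, hF, hwF⟩ := connectedComponentIn_subset _ _ hw
      exact hF.2.1 hwF
  -- every component outside `A` is linked to `E` outside `A`
  have hBc : IsPreconnected (⋃₀ t) := by
    obtain ⟨e, he⟩ := hE.1.nonempty
    refine isPreconnected_of_forall e fun w hw => ?_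
    obtain ⟨F, hF, hwF⟩ := hw
    by_cases hFE : F = E
    · exact ⟨E, fun v hv => ⟨E, hEt, hv⟩, he, hFE ▸ hwF, hE.1.isConnected.isPreconnected⟩
    have hFs : F ∈ s := ⟨hF.1, hF.2.1, hFE⟩
    let K := connectedComponentIn (⋃₀ s) w
    have hKA : Disjoint K A := Set.disjoint_left.2 fun v hvK hvA => hF.2.2 (by
      refine hmem F hFs w hwF ?_
      rw [show A = connectedComponentIn (⋃₀ s) v from connectedComponentIn_eq hvA, ← connectedComponentIn_eq hvK]
      exact mem_connectedComponentIn ⟨F, hFs, hwF⟩)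
    have hmemK : ∀ F ∈ s, ∀ v ∈ F, v ∈ K → F ⊆ K := fun F hF v hvF hvK => by
      rw [show K = connectedComponentIn (⋃₀ s) v from connectedComponentIn_eq hvK]
      exact hF.1.1.isConnected.isPreconnected.subset_connectedComponentIn hvF fun z hz => ⟨F, hF, hz⟩
    have hKt : K ⊆ ⋃₀ t := fun v hv => by
      obtain ⟨G, hG, hvG⟩ := connectedComponentIn_subset _ _ hv
      exact ⟨G, ⟨hG.1, hG.2.1, fun h => Set.disjoint_left.1 hKA hv (h hvG)⟩, hvG⟩
    obtain ⟨v, hvK, hvE⟩ : (K ∩ E).Nonempty := by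
      by_contra hKE
      have hdis : ∀ v ∈ K, v ∉ E := fun v hv hvE => hKE ⟨v, hv, hvE⟩
      let L := ⋃₀ {G ∈ irreducibleComponents X | G ⊆ D ∧ Disjoint G K}
      have hKc : IsClosed K := by
        refine closure_subset_iff_isClosed.1 ?_
        exact (isPreconnected_connectedComponentIn.closure).subset_connectedComponentIn
          (subset_closure (mem_connectedComponentIn ⟨F, hFs, hwF⟩))
          (closure_minimal (connectedComponentIn_subset _ _) hs.closed)
      have hcov' : D ⊆ K ∪ L := fun v hv => by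
        obtain ⟨G, hG, hvG, hGD⟩ := hD.cover v hv
        by_cases h : Disjoint G K
        · exact Or.inr ⟨G, ⟨hG, hGD, h⟩, hvG⟩
        · obtain ⟨z, hzG, hzK⟩ := not_disjoint_iff.1 h
          exact Or.inl (hmemK G ⟨hG, hGD, fun e => hdis z hzK (e ▸ hzG)⟩ z hzG hzK hvG)
      obtain ⟨z, -, hzK, G, hG, hzG⟩ := isPreconnected_closed_iff.1 hDc K L hKc
        (isSubcurve_biUnion (sep_subset _ _)).closed hcov'
        ⟨w, hF.2.1 hwF, mem_connectedComponentIn ⟨F, hFs, hwF⟩⟩
        ⟨e, hED he, E, ⟨hE, hED, Set.disjoint_left.2 fun v hvE hvK => hdis v hvK hvE⟩, he⟩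
      exact Set.disjoint_left.1 hG.2.2 hzG hzK
    exact ⟨K ∪ E, union_subset hKt (fun v hv => ⟨E, hEt, hv⟩), Or.inr he,
      Or.inl (mem_connectedComponentIn ⟨F, hFs, hwF⟩),
      isPreconnected_connectedComponentIn.union v hvK hvE hE.1.isConnected.isPreconnected⟩
  refine ⟨A, ⋃₀ t, hA, hB, isPreconnected_connectedComponentIn, hBc, hcov ▸ subset_union_left,
    hcov ▸ subset_union_right, fun v hv => ⟨E, hEt, hv⟩, hE'A, hAB, hEA, ?_, ?_, hcov⟩
  · intro h
    obtain ⟨γ, hγ⟩ := QuasiSober.sober hE'.1 (isClosed_of_mem_irreducibleComponents E' hE')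
    obtain ⟨F, hF, hγF⟩ := h hγ.mem
    refine hF.2.2 ?_
    rw [← eq_of_comp_subset hE' hF.1 ?_]
    · exact hE'A
    · rw [← hγ.def]
      exact closure_minimal (singleton_subset_iff.2 hγF) (isClosed_of_mem_irreducibleComponents F hF.1)
  · obtain ⟨e, he⟩ := hE.1.nonempty
    obtain ⟨z, -, hzA, hzB⟩ := isPreconnected_closed_iff.1 hDc A (⋃₀ t) hA.closed hB.closed hcov.subset
      ⟨p, hE'D hp, hE'A hp⟩ ⟨e, hED he, E, hEt, he⟩
    exact ⟨z, hzA, hzB⟩

end Groth.Agent.StabUniq18
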