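import Groth.Agent.Lib.StabUniq18.Contr
import Groth.Agent.Lib.CurveH1Min27.Basic
import Groth.Agent.Lib.CurveAmple18.Basic
import Groth.Agent.Lib.Nodal27.Point

/-!
# Curves without first cohomology are trees
-/

set_option autoImplicit false
set_option linter.style.haveILetI false
set_option maxHeartbeats 1000000
set_option backward.isDefEq.respectTransparency false
set_option backward.isDefEq.respectTransparency.types false

universe u

open CategoryTheory CategoryTheory.Limits AlgebraicGeometry TopologicalSpace Opposite Set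

noncomputable section

namespace Groth.Agent.StabUniq18

open CohFound

variable {k : Type u} [Field k] [IsAlgClosed k] {T : Scheme.{u}} (f : T ⟶ Spec (CommRingCat.of k))

/-- A constant function over an open. -/
abbrev cst (U : T.Opens) (e : k) : Γ(T, U) := T.presheaf.map (homOfLE le_top).op (Coh.toGlobal f e)

theorem cst_map {U V : T.Opens} (h : V ≤ U) (e : k) :
    T.presheaf.map (homOfLE h).op (cst f U e) = cst f V e := by
  rw [cst, ← CommRingCat.comp_apply, ← Functor.map_comp]; rfl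

/-- Global functions on a connected reduced proper scheme are constant. -/
theorem exists_const {A : Scheme.{u}} (g : A ⟶ Spec (CommRingCat.of k)) [IsProper g] [ConnectedSpace A]
    [AlgebraicGeometry.IsReduced A] (w : Γ(A, ⊤)) : ∃ e : k, w = Coh.toGlobal g e := by
  letI : A.Over (Spec (CommRingCat.of k)) := ⟨g⟩
  haveI : IsProper (A ↘ Spec (CommRingCat.of k)) := inferInstanceAs (IsProper g)
  haveI : JacobsonSpace A := LocallyOfFiniteType.jacobsonSpace g
  obtain ⟨q, -, hq⟩ := nonempty_inter_closedPoints (Z := (Set.univ : Set A)) Set.univ_nonempty isClosed_univ.isLocallyClosed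
  obtain ⟨e, he⟩ := Nodal27.exists_sub_mem_maximal g hq (A.presheaf.germ ⊤ q trivial w)
  refine ⟨e, sub_eq_zero.1 (by_contra fun hne => ?_)⟩
  have hu := (CurveH1Min27.isUnit_of_ne_zero (k := k) (X := A) (CurveH1Min27Fin g) _ hne).map (A.presheaf.germ ⊤ q trivial).hom
  rw [map_sub] at hu
  refine (IsLocalRing.mem_maximalIdeal _).1 ?_ hu
  have := (IsLocalRing.maximalIdeal (A.presheaf.stalk q)).neg_mem he
  rwa [neg_sub] at this
where
  CurveH1Min27Fin {A : Scheme.{u}} (g : A ⟶ Spec (CommRingCat.of k)) [IsProper g] :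
      letI : A.Over (Spec (CommRingCat.of k)) := ⟨g⟩
      Module.Finite k (Coh.HH A (Coh.structureModule A) 0) := by
    letI : A.Over (Spec (CommRingCat.of k)) := ⟨g⟩
    haveI : IsProper (A ↘ Spec (CommRingCat.of k)) := inferInstanceAs (IsProper g)
    haveI := CohFound.isNoetherian_of_isProper (A ↘ Spec (CommRingCat.of k))
    exact CohFound.finite_HH_of_isProper (Coh.structureModule A) CurveCoh17.isCoh_structureModule 0

variable [IsProper f] [AlgebraicGeometry.IsReduced T]

/-- Two functions with constant difference on a connected closed piece are constant there. -/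
theorem exists_const_pair {W : Set T} (hW : IsClosed W) (hWp : _root_.IsPreconnected W) (hWne : W.Nonempty)
    {U V : T.Opens} (hcov : U ⊔ V = ⊤) (u : Γ(T, U)) (v : Γ(T, V)) (e : k)
    (h : (redι ⟨W, hW⟩).app (U ⊓ V) (T.presheaf.map (homOfLE inf_le_left).op u -
      T.presheaf.map (homOfLE inf_le_right).op v) = (redι ⟨W, hW⟩).app (U ⊓ V) (cst f _ e)) :
    ∃ C : k, (redι ⟨W, hW⟩).app U (u - cst f U C) = 0 ∧ (redι ⟨W, hW⟩).app V (v - cst f V (C - e)) = 0 := by
  let a := redι (⟨W, hW⟩ : Closeds T)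
  let A := red (⟨W, hW⟩ : Closeds T)
  haveI : AlgebraicGeometry.IsReduced A := RedSepLib.isReduced_vanishingIdeal_subscheme _
  haveI : IsProper (a ≫ f) := inferInstance
  haveI : ConnectedSpace A := by
    have hc : _root_.IsConnected (Set.range a) := by rw [range_redι]; exact ⟨hWne, hWp⟩
    haveI : ConnectedSpace (Set.range a) := isConnected_iff_connectedSpace.1 hc
    exact a.isEmbedding.toHomeomorph.symm.surjective.connectedSpace a.isEmbedding.toHomeomorph.symm.continuous
  let x : Γ(A, a ⁻¹ᵁ U) := a.app U u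
  let y : Γ(A, a ⁻¹ᵁ V) := a.app V (v + cst f V e)
  have hxy : A.presheaf.map (homOfLE (a.preimage_mono inf_le_left : a ⁻¹ᵁ (U ⊓ V) ≤ a ⁻¹ᵁ U)).op x =
      A.presheaf.map (homOfLE (a.preimage_mono inf_le_right : a ⁻¹ᵁ (U ⊓ V) ≤ a ⁻¹ᵁ V)).op y := by
    rw [map_sub, sub_eq_iff_eq_add] at h
    have h1 := congrArg (fun φ => (CommRingCat.Hom.hom φ) u) (a.naturality (homOfLE (inf_le_left : U ⊓ V ≤ U)).op)
    have h2 := congrArg (fun φ => (CommRingCat.Hom.hom φ) (v + cst f V e))
      (a.naturality (homOfLE (inf_le_right : U ⊓ V ≤ V)).op)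
    refine h1.symm.trans (h.trans (Eq.trans ?_ h2))
    show _ = a.app (U ⊓ V) (T.presheaf.map (homOfLE inf_le_right).op (v + cst f V e))
    rw [map_add (T.presheaf.map _).hom, cst_map, map_add, add_comm]
  let O : Bool → A.Opens := fun b => cond b (a ⁻¹ᵁ U) (a ⁻¹ᵁ V)
  let g : ∀ b, Γ(A, O b) := fun b => Bool.rec y x b
  obtain ⟨w, hw, -⟩ := TopCat.Sheaf.existsUnique_gluing' A.sheaf O ⊤ (fun b => homOfLE le_top)
    (by
      intro z _
      have : a z ∈ U ⊔ V := hcov ▸ trivial
      rcases this with h | h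
      · exact Opens.mem_iSup.2 ⟨true, h⟩
      · exact Opens.mem_iSup.2 ⟨false, h⟩) g (by
      intro b b'
      cases b <;> cases b'
      · rfl
      · show A.presheaf.map (homOfLE inf_le_left).op y = A.presheaf.map (homOfLE inf_le_right).op x
        have hle : a ⁻¹ᵁ V ⊓ a ⁻¹ᵁ U ≤ a ⁻¹ᵁ (U ⊓ V) := fun z hz => ⟨hz.2, hz.1⟩
        have := congrArg (A.presheaf.map (homOfLE hle).op).hom hxy.symm
        have hh : ∀ {P Q R : A.Opens} (h1 : Q ≤ P) (h2 : R ≤ Q) (t : Γ(A, P)),
            A.presheaf.map (homOfLE h2).op (A.presheaf.map (homOfLE h1).op t) =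
              A.presheaf.map (homOfLE (h2.trans h1)).op t := fun h1 h2 t => by
          rw [← CommRingCat.comp_apply, ← Functor.map_comp]; rfl
        exact ((hh _ hle y).symm.trans (this.trans (hh _ hle x)))
      · show A.presheaf.map (homOfLE inf_le_left).op x = A.presheaf.map (homOfLE inf_le_right).op y
        exact hxy
      · rfl)
  obtain ⟨C, hC⟩ := exists_const (a ≫ f) w
  have key : ∀ (U' : T.Opens), A.presheaf.map (homOfLE (le_top : a ⁻¹ᵁ U' ≤ ⊤)).op w = a.app U' (cst f U' C) := by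
    intro U'
    rw [hC, cst]
    exact (congrArg (fun φ => (CommRingCat.Hom.hom φ) (Coh.toGlobal f C)) (a.naturality (homOfLE (le_top : U' ≤ ⊤)).op)).symm
  refine ⟨C, ?_, ?_⟩
  · rw [map_sub, sub_eq_zero]
    exact (hw true).symm.trans (key U)
  · have h3 : a.app V (v + cst f V e) = a.app V (cst f V C) := (hw false).symm.trans (key V)
    have h4 : cst f V (C - e) = cst f V C - cst f V e := by simp [cst, map_sub]
    rw [h4, map_sub, map_sub, ← h3, map_add]
    abel

theorem germ_cst {U : T.Opens} {p : T} (hp : p ∈ U) (e : k) :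
    T.presheaf.germ U p hp (cst f U e) = RegSmooth17.toStalk f p e := by
  rw [cst, TopCat.Presheaf.germ_res_apply]
  rfl

/-- A value of a function at a point of a piece where it is constant. -/
theorem sub_mem_maximal {W : Set T} (hW : IsClosed W) {U : T.Opens} (u : Γ(T, U)) (C : k)
    (h : (redι ⟨W, hW⟩).app U (u - cst f U C) = 0) {p : T} (hpW : p ∈ W) (hp : p ∈ U) :
    T.presheaf.germ U p hp u - RegSmooth17.toStalk f p C ∈ IsLocalRing.maximalIdeal (T.presheaf.stalk p) := by
  rw [← germ_cst f hp C, ← map_sub]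
  intro hu
  obtain ⟨z, hz⟩ : p ∈ Set.range (redι (⟨W, hW⟩ : Closeds T)) := by rw [range_redι]; exact hpW
  have hb : p ∈ T.basicOpen (u - cst f U C) := (T.mem_basicOpen _ p hp).2 hu
  have hb' : z ∈ redι (⟨W, hW⟩ : Closeds T) ⁻¹ᵁ T.basicOpen (u - cst f U C) := by
    show redι (⟨W, hW⟩ : Closeds T) z ∈ T.basicOpen (u - cst f U C)
    rw [hz]; exact hb
  rw [Scheme.preimage_basicOpen, h, Scheme.basicOpen_zero] at hb'
  exact hb'.elim

theorem toStalk_mem_maximal {p : T} {e : k} (h : RegSmooth17.toStalk f p e ∈ IsLocalRing.maximalIdeal (T.presheaf.stalk p)) :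
    e = 0 := by
  by_contra hne
  exact h ((isUnit_iff_ne_zero.2 hne).map (RegSmooth17.toStalk f p))

include f in
theorem subsingleton_inter (hH : Subsingleton (Hc ((abF T).obj (Coh.structureModule T)) 1 ⊤))
    {W₁ W₂ : Set T} (h₁ : IsClosed W₁) (h₂ : IsClosed W₂) (h₁p : _root_.IsPreconnected W₁)
    (h₂p : _root_.IsPreconnected W₂) (hcov : W₁ ∪ W₂ = Set.univ) (hS : (W₁ ∩ W₂).Finite) :
    (W₁ ∩ W₂).Subsingleton := by
  classical
  intro q hq q' hq'
  by_contra hne
  set S := W₁ ∩ W₂ with hSdef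
  haveI : JacobsonSpace T := LocallyOfFiniteType.jacobsonSpace f
  have hSc : ∀ R : Set T, R ⊆ S → IsClosed R := by
    intro R hR
    haveI := hS.to_subtype
    haveI : JacobsonSpace S := JacobsonSpace.of_isClosedEmbedding (h₁.inter h₂).isClosedEmbedding_subtypeVal
    have := (h₁.inter h₂).isClosedEmbedding_subtypeVal.isClosedMap _ (isClosed_discrete (Subtype.val ⁻¹' R : Set S))
    rwa [Subtype.image_preimage_coe, Set.inter_eq_right.2 hR] at this
  let U : T.Opens := ⟨({q} : Set T)ᶜ, (hSc {q} (Set.singleton_subset_iff.2 hq)).isOpen_compl⟩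
  let V : T.Opens := ⟨(S \ {q})ᶜ, (hSc _ Set.sdiff_subset).isOpen_compl⟩
  have hUV : U ⊔ V = ⊤ := top_le_iff.1 fun z _ => (em (z = q)).elim
    (fun h => Or.inr fun h' => h'.2 h) Or.inl
  have hUVS : ∀ z ∈ U ⊓ V, z ∉ S := fun z hz hzS => hz.2 ⟨hzS, hz.1⟩
  let O : Bool → T.Opens := fun b => cond b ⟨(W₂ : Set T)ᶜ, h₂.isOpen_compl⟩ ⟨(W₁ : Set T)ᶜ, h₁.isOpen_compl⟩
  have hOle : ∀ b, O b ≤ U ⊓ V := by
    intro b z hz
    have hzS : z ∉ S := fun h => by cases b; exacts [hz h.1, hz h.2]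
    exact ⟨fun h => hzS (h ▸ hq), fun h => hzS h.1⟩
  have hOcov : U ⊓ V ≤ ⨆ b, O b := fun z hz => by
    by_cases h : z ∈ W₂
    · exact Opens.mem_iSup.2 ⟨false, fun h' => hUVS z hz ⟨h', h⟩⟩
    · exact Opens.mem_iSup.2 ⟨true, h⟩
  obtain ⟨d, hd, -⟩ := TopCat.Sheaf.existsUnique_gluing' T.sheaf O (U ⊓ V) (fun b => homOfLE (hOle b)) hOcov
    (fun b => cst f (O b) (cond b 1 0)) (by
      intro b b'
      cases b <;> cases b'
      · rfl
      · haveI : Subsingleton Γ(T, O false ⊓ O true) := by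
          rw [show O false ⊓ O true = ⊥ from eq_bot_iff.2 fun z hz =>
            ((hcov.symm.subset (Set.mem_univ z)).elim hz.1 hz.2).elim]
          infer_instance
        exact @Subsingleton.elim Γ(T, O false ⊓ O true) this _ _
      · haveI : Subsingleton Γ(T, O true ⊓ O false) := by
          rw [show O true ⊓ O false = ⊥ from eq_bot_iff.2 fun z hz =>
            ((hcov.symm.subset (Set.mem_univ z)).elim hz.2 hz.1).elim]
          infer_instance
        exact @Subsingleton.elim Γ(T, O true ⊓ O false) this _ _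
      · rfl)
  let F := (abF T).obj (Coh.structureModule T)
  haveI : Subsingleton (Hc F 1 (U ⊔ V)) := hUV.symm ▸ hH
  obtain ⟨y, z, hyz⟩ := mv_diff ((hc0 F (U ⊓ V)).symm d) (Subsingleton.elim _ _)
  let u : Γ(T, U) := hc0 F U y
  let v : Γ(T, V) := hc0 F V z
  have hdiff : T.presheaf.map (homOfLE inf_le_left).op u - T.presheaf.map (homOfLE inf_le_right).op v = d := by
    have := congrArg (hc0 F (U ⊓ V)) hyz
    rw [map_sub, hc0_rs, hc0_rs, AddEquiv.apply_symm_apply] at this
    exact this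
  have piece : ∀ (b : Bool) (W : Set T) (hW : IsClosed W), (∀ z ∈ W, z ∈ U ⊓ V → z ∈ O b) →
      (redι (⟨W, hW⟩ : Closeds T)).app (U ⊓ V) (T.presheaf.map (homOfLE inf_le_left).op u -
        T.presheaf.map (homOfLE inf_le_right).op v) =
        (redι (⟨W, hW⟩ : Closeds T)).app (U ⊓ V) (cst f _ (cond b 1 0)) := by
    intro b W hW hWb
    let a := redι (⟨W, hW⟩ : Closeds T)
    have hle : a ⁻¹ᵁ (U ⊓ V) ≤ a ⁻¹ᵁ O b := fun z hz => hWb _ ((range_redι ⟨W, hW⟩).le ⟨z, rfl⟩) hz
    have hinj : ∀ t : Γ(red (⟨W, hW⟩ : Closeds T), a ⁻¹ᵁ (U ⊓ V)),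
        (red (⟨W, hW⟩ : Closeds T)).presheaf.map (homOfLE (a.preimage_mono (hOle b))).op t = 0 → t = 0 := fun t ht => by
      have := congrArg ((red (⟨W, hW⟩ : Closeds T)).presheaf.map (homOfLE hle).op).hom ht
      rw [map_zero, ← CommRingCat.comp_apply, ← Functor.map_comp,
        show (homOfLE (a.preimage_mono (hOle b))).op ≫ (homOfLE hle).op = 𝟙 _ from Subsingleton.elim _ _,
        CategoryTheory.Functor.map_id] at this
      exact this
    have hd' : T.presheaf.map (homOfLE (hOle b)).op d = cst f (O b) (cond b 1 0) := hd b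
    have hnat : ∀ t : Γ(T, U ⊓ V), (red (⟨W, hW⟩ : Closeds T)).presheaf.map (homOfLE (a.preimage_mono (hOle b))).op
        (a.app (U ⊓ V) t) = a.app (O b) (T.presheaf.map (homOfLE (hOle b)).op t) := fun t =>
      (congrArg (fun φ => (CommRingCat.Hom.hom φ) t) (a.naturality (homOfLE (hOle b)).op)).symm
    refine sub_eq_zero.1 (hinj _ ?_)
    rw [map_sub, hnat, hnat, hdiff, hd', cst_map, sub_self]
  obtain ⟨C₁, hu₁, hv₁⟩ := exists_const_pair f h₁ h₁p ⟨q, hq.1⟩ hUV u v 1
    (piece true W₁ h₁ fun z hz hz' h => hUVS z hz' ⟨hz, h⟩)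
  obtain ⟨C₂, hu₂, hv₂⟩ := exists_const_pair f h₂ h₂p ⟨q, hq.2⟩ hUV u v 0
    (piece false W₂ h₂ fun z hz hz' h => hUVS z hz' ⟨h, hz⟩)
  have hq'U : q' ∈ U := Ne.symm hne
  have hqV : q ∈ V := fun h => h.2 rfl
  have e1 : C₁ - C₂ = 0 := toStalk_mem_maximal f (p := q') (by
    have := (IsLocalRing.maximalIdeal (T.presheaf.stalk q')).sub_mem (sub_mem_maximal f h₂ u C₂ hu₂ hq'.2 hq'U)
      (sub_mem_maximal f h₁ u C₁ hu₁ hq'.1 hq'U)
    rwa [sub_sub_sub_cancel_left, ← map_sub] at this)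
  have e2 : (C₁ - 1) - (C₂ - 0) = 0 := toStalk_mem_maximal f (p := q) (by
    have := (IsLocalRing.maximalIdeal (T.presheaf.stalk q)).sub_mem (sub_mem_maximal f h₂ v (C₂ - 0) hv₂ hq.2 hqV)
      (sub_mem_maximal f h₁ v (C₁ - 1) hv₁ hq.1 hqV)
    rwa [sub_sub_sub_cancel_left, ← map_sub] at this)
  exact one_ne_zero (α := k) (by linear_combination e1 - e2)

end Groth.Agent.StabUniq18
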